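import Cfsg.Agent.Lib.Walter.J1Local.Orbit
import Cfsg.Agent.Lib.HallE8.Solvable

/-!
Case (J) with `|W| = r` or `|W| = r²`: the data of the orbit argument.
-/

set_option autoImplicit false
set_option linter.unusedSectionVars false

namespace CfsgLib.Walter

open scoped commutatorElement

universe u

variable {G : Type u} [Group G] [Finite G] {C : Coord G} {r : ℕ} {X : Ctx C r}

theorem conj_pow_pow {g x : G} {a : ℕ} (h : g * x * g⁻¹ = x ^ a) (m : ℕ) :
    g ^ m * x * (g ^ m)⁻¹ = x ^ a ^ m := by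
  induction m with
  | zero => simp
  | succ m ih =>
    rw [pow_succ' g, show g * g ^ m * x * (g * g ^ m)⁻¹ = g * (g ^ m * x * (g ^ m)⁻¹) * g⁻¹ by group, ih,
      ← conj_pow, h, ← pow_mul, ← pow_succ']

/-- A family of abelian subgroups of largest order generating the group computes `Z(J)`. -/
theorem centerThompson_eq {P : Subgroup G} (hJ : Cfsg.thompsonSubgroupA P = ⊤) :
    Cfsg.centerThompsonAOf P = P ⊓ Subgroup.centralizer (P : Set G) := by
  have hT : Cfsg.thompsonSubgroupAOf P = P := by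
    show (Cfsg.thompsonSubgroupA P).map P.subtype = P
    rw [hJ, ← MonoidHom.range_eq_map, Subgroup.range_subtype]
  show Cfsg.thompsonSubgroupAOf P ⊓ _ = _
  rw [hT]

namespace PData

variable (D : PData X)
include D

theorem small_r (h : Nat.card D.W = r) : False := by
  classical
  have hWn : ∀ w ∈ D.W, w ∈ Subgroup.zpowers X.D.n := fun w hw => by
    rw [Subgroup.eq_of_le_of_card_ge (Subgroup.zpowers_le.mpr D.n_mem) (by rw [Nat.card_zpowers, X.D.n_ord, h])]
    exact hw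
  have hnc : ∀ x ∈ D.P, Commute X.D.n x := fun x hx => by
    obtain ⟨w, hw, i, rfl⟩ := D.decomp x hx
    obtain ⟨j, rfl⟩ := hWn w hw
    exact ((Commute.refl X.D.n).zpow_right j).mul_right (X.n_phi.symm.pow_right i)
  have hφc : ∀ x ∈ D.P, Commute C.φ x := fun x hx => by
    obtain ⟨w, hw, i, rfl⟩ := D.decomp x hx
    obtain ⟨j, rfl⟩ := hWn w hw
    exact (X.n_phi.zpow_right j).mul_right ((Commute.refl C.φ).pow_right i)
  have hab : ∀ x ∈ D.P, ∀ y ∈ D.P, Commute x y := fun x hx y hy => by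
    obtain ⟨w, hw, i, rfl⟩ := D.decomp x hx
    obtain ⟨j, rfl⟩ := hWn w hw
    exact ((hnc y hy).zpow_left j).mul_left ((hφc y hy).pow_left i)
  have hJ : Cfsg.thompsonSubgroupA D.P = ⊤ := by
    refine top_le_iff.mp (le_sSup ⟨⟨⟨fun a b => Subtype.ext (Subtype.ext (hab _ a.1.2 _ b.1.2).eq)⟩⟩, fun B _ => ?_⟩)
    exact Subgroup.card_le_of_le le_top
  have hz : Cfsg.centerThompsonAOf D.P = D.P := by
    rw [centerThompson_eq hJ, inf_eq_left]
    exact fun x hx y hy => (hab y hy x hx).eq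
  obtain ⟨a, ha⟩ := X.D.h_norm
  have hhN : X.D.h ∈ Subgroup.normalizer (D.P : Set G) := by
    refine Subgroup.mem_normalizer_fintype fun x hx => ?_
    obtain ⟨w, hw, i, rfl⟩ := D.decomp x hx
    obtain ⟨j, rfl⟩ := hWn w hw
    show X.D.h * (X.D.n ^ j * C.φ ^ i) * X.D.h⁻¹ ∈ D.P
    rw [← conj_mul, ← conj_zpow, ha, ((X.D.phi _ X.D.h_mem).symm.pow_right i).eq, mul_inv_cancel_right]
    exact mul_mem (Subgroup.zpow_mem _ (pow_mem D.n_P a) j) (pow_mem D.φ_mem i)
  exact SData.false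
    { Z := (⊥ : Subgroup G), Z_le := bot_le,
      cardW := by rw [h, Subgroup.card_bot, mul_one],
      central := fun z hz x _ => by rw [Subgroup.mem_bot.mp hz]; exact Commute.one_left x,
      n_central := hnc,
      comm := fun x hx y hy => Subgroup.mem_bot.mpr (commutatorElement_eq_one_iff_mul_comm.mpr (hab x hx y hy).eq),
      cls := fun z hz => ⟨1, one_mem _, by rw [Subgroup.mem_bot.mp hz]; simp⟩,
      norm := fun s _ z hz => by rw [Subgroup.mem_bot.mp hz]; simp,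
      fix := fun g _ hv => mul_inv_eq_iff_eq_mul.mp (mul_inv_eq_one.mp (Subgroup.mem_bot.mp (hv _ D.n_P))),
      h := X.D.h, h_norm := hhN, h_phi := (X.D.phi _ X.D.h_mem).symm, h_n := X.D.h_n,
      h_pow := by rw [orderOf_dvd_iff_pow_eq_one.mp X.D.h_ord.dvd]; exact Commute.one_left _,
      control := fun x hx g hg => by
        have := D.sylow_control hx hg
        rwa [hz] at this }

theorem small_sq (h : Nat.card D.W = r ^ 2) : False := by
  classical
  haveI : Fact r.Prime := ⟨X.prime⟩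
  have hcard : Nat.card D.P = r ^ 3 := by rw [D.card_P, h, ← pow_succ]
  -- `φ` is not central
  have hφnc : ¬ ∀ x ∈ D.P, Commute x C.φ := by
    intro hall
    have hle : D.W ≤ Subgroup.zpowers X.D.n := fun w hw => D.W_phi hw (hall w (D.W_le hw))
    have h1 := Subgroup.card_le_of_le hle
    rw [h, Nat.card_zpowers, X.D.n_ord, pow_two] at h1
    exact absurd h1 (not_le.mpr (lt_mul_of_one_lt_left X.prime.pos X.prime.one_lt))
  have hcenter : ∀ c ∈ D.P, (∀ x ∈ D.P, Commute c x) → c ∈ Subgroup.zpowers X.D.n := by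
    intro c hc hall
    obtain ⟨i, j, e⟩ := D.P_phi hc (hall _ D.φ_mem)
    have hi : C.φ ^ i = 1 := by
      by_contra hne
      refine hφnc fun x hx => X.commute_phi_of_pow (i := i + i) (fun h2 => hne (C.φ_pow_two (by rw [← pow_add]; exact h2))) ?_
      have h2 : Commute (X.D.u * c * X.D.u⁻¹) x := by
        have hux := hall _ (D.u_norm x hx)
        show _ = _
        have e1 : X.D.u * (X.D.u * x * X.D.u⁻¹) * X.D.u⁻¹ = x := by
          rw [show X.D.u * (X.D.u * x * X.D.u⁻¹) * X.D.u⁻¹ = (X.D.u * X.D.u) * x * (X.D.u * X.D.u)⁻¹ by group, X.uu]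
          group
        rw [← e1, conj_mul, conj_mul, hux.eq]
      have e2 : C.φ ^ (i + i) = c * (X.D.u * c * X.D.u⁻¹) := by
        rw [e, show X.D.u * (C.φ ^ i * X.D.n ^ j) * X.D.u⁻¹ =
          (X.D.u * C.φ ^ i * X.D.u⁻¹) * (X.D.u * X.D.n ^ j * X.D.u⁻¹) by group,
          (X.u_phi.pow_right i).eq, mul_inv_cancel_right, ← conj_pow, X.D.u_n, inv_pow, pow_add,
          mul_assoc (C.φ ^ i) (X.D.n ^ j), ← mul_assoc (X.D.n ^ j), ← (X.n_phi.pow_pow i j).eq,
          mul_inv_cancel_right]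
      rw [e2]
      exact ((hall x hx).mul_left h2).symm
    rw [e, hi, one_mul]
    exact Subgroup.pow_mem _ (Subgroup.mem_zpowers _) j
  haveI : Nontrivial D.P := ⟨⟨_, D.φ_mem⟩, 1, fun e => X.φ_ne (congrArg Subtype.val e)⟩
  have hnc : ∀ x ∈ D.P, Commute X.D.n x := by
    haveI := D.isP.center_nontrivial
    obtain ⟨⟨⟨c, hcP⟩, hcc⟩, hc1⟩ := exists_ne (1 : Subgroup.center D.P)
    have hall : ∀ x ∈ D.P, Commute c x := fun x hx =>
      (congrArg Subtype.val (Subgroup.mem_center_iff.mp hcc ⟨x, hx⟩)).symm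
    obtain ⟨j, hj⟩ := (isOfFinOrder_of_finite X.D.n).mem_powers_iff_mem_zpowers.mpr (hcenter c hcP hall)
    simp only at hj
    have hne : X.D.n ^ j ≠ 1 := fun e => hc1 (Subtype.ext (Subtype.ext (hj ▸ e)))
    obtain ⟨b, hb⟩ := exists_pow_eq_self_of_coprime (x := X.D.n) (n := j) (by
      rw [X.D.n_ord]
      exact Nat.Coprime.symm (X.prime.coprime_iff_not_dvd.mpr fun hd => hne (by
        rw [← orderOf_dvd_iff_pow_eq_one, X.D.n_ord]; exact hd)))
    intro x hx
    rw [← hb, hj]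
    exact (hall x hx).pow_left b
  set Z := Subgroup.zpowers X.D.n with hZ
  have hZc : ∀ z ∈ Z, ∀ x ∈ D.P, Commute z x := by
    rintro _ ⟨k, rfl⟩ x hx
    exact (hnc x hx).zpow_left k
  have hZP : Z ≤ D.P := Subgroup.zpowers_le.mpr D.n_P
  have hZcard : Nat.card Z = r := by rw [Nat.card_zpowers, X.D.n_ord]
  -- the quotient by `Z` is abelian
  set Zp := Z.subgroupOf D.P
  haveI : Zp.Normal := ⟨fun z hz g => by
    have hh : ((g * z * g⁻¹ : D.P) : G) = z.1 := by
      show g.1 * z.1 * g.1⁻¹ = z.1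
      rw [← (hZc z.1 hz g.1 g.2).eq, mul_inv_cancel_right]
    show ((g * z * g⁻¹ : D.P) : G) ∈ Z
    rw [hh]; exact hz⟩
  have hq : Nat.card (D.P ⧸ Zp) = r ^ 2 := by
    have h1 := Subgroup.card_eq_card_quotient_mul_card_subgroup Zp
    rw [Nat.card_congr (Subgroup.subgroupOfEquivOfLe hZP).toEquiv, hZcard, hcard] at h1
    exact Nat.eq_of_mul_eq_mul_right X.prime.pos (h1.symm.trans (pow_succ r 2))
  have hcomm : ∀ x ∈ D.P, ∀ y ∈ D.P, ⁅x, y⁆ ∈ Z := fun x hx y hy => by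
    have h1 : ((⁅(⟨x, hx⟩ : D.P), ⟨y, hy⟩⁆ : D.P) : D.P ⧸ Zp) = 1 := by
      rw [← QuotientGroup.mk'_apply, map_commutatorElement, commutatorElement_eq_one_iff_mul_comm]
      exact IsPGroup.commutative_of_card_eq_prime_sq hq _ _
    have h2 := (QuotientGroup.eq_one_iff (⁅(⟨x, hx⟩ : D.P), ⟨y, hy⟩⁆ : D.P)).mp h1
    exact h2
  -- a generating commutator
  push Not at hφnc
  obtain ⟨p0, hp0, hp0c⟩ := hφnc
  have hz0 : ⁅p0, C.φ⁆ ∈ Z := hcomm _ hp0 _ D.φ_mem
  set z0 := ⁅p0, C.φ⁆ with hz0d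
  have hz01 : z0 ≠ 1 := fun e => hp0c (commutatorElement_eq_one_iff_mul_comm.mp e)
  have hp0e : p0 * C.φ * p0⁻¹ = C.φ * z0 := by
    rw [← (hZc _ hz0 _ D.φ_mem).eq, hz0d, commutatorElement_def]; group
  have hgen : ∀ z ∈ Z, ∃ l : ℕ, z0 ^ l = z := by
    intro z hz
    haveI : Fact (Nat.card Z).Prime := ⟨by rw [hZcard]; exact X.prime⟩
    have h1 : Subgroup.zpowers z0 = Z := by
      refine Subgroup.eq_of_le_of_card_ge (Subgroup.zpowers_le.mpr hz0) ?_
      rw [hZcard, Nat.card_zpowers]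
      obtain ⟨k, hk⟩ := hz0
      have : z0 ^ r = 1 := by
        rw [← hk, ← zpow_natCast, ← zpow_mul, mul_comm, zpow_mul, zpow_natCast, X.n_pow, one_zpow]
      exact (orderOf_eq_prime this hz01).ge
    exact (isOfFinOrder_of_finite z0).mem_powers_iff_mem_zpowers.mpr (h1 ▸ hz)
  have hpl : ∀ l : ℕ, p0 ^ l * C.φ * (p0 ^ l)⁻¹ = C.φ * z0 ^ l := by
    intro l
    induction l with
    | zero => simp
    | succ l ih =>
      rw [pow_succ' p0, show p0 * p0 ^ l * C.φ * (p0 * p0 ^ l)⁻¹ = p0 * (p0 ^ l * C.φ * (p0 ^ l)⁻¹) * p0⁻¹ by group,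
        ih, ← conj_mul, hp0e, ← conj_pow, ← (hZc _ hz0 _ hp0).eq, mul_inv_cancel_right, mul_assoc, ← pow_succ']
  -- `Z(J(P)) = Z`
  obtain ⟨Q0, -, hQ0c, hφQ, hnQ, -, hQmem⟩ := X.exists_Q0
  have hQP : Q0 ≤ D.P := fun x hx => by
    obtain ⟨i, j, rfl⟩ := (hQmem x).mp hx
    exact mul_mem (pow_mem D.φ_mem i) (pow_mem D.n_P j)
  have hQab : IsMulCommutative (Q0.subgroupOf D.P) := ⟨⟨fun a b => Subtype.ext (Subtype.ext (by
    obtain ⟨i, j, e⟩ := (hQmem _).mp a.2
    obtain ⟨k, l, e'⟩ := (hQmem _).mp b.2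
    show Commute a.1.1 b.1.1
    have e1 : a.1.1 = C.φ ^ i * X.D.n ^ j := e
    have e2 : b.1.1 = C.φ ^ k * X.D.n ^ l := e'
    rw [e1, e2]
    exact (((Commute.refl C.φ).pow_pow i k).mul_right (X.n_phi.pow_pow i l)).mul_left
      ((X.n_phi.symm.pow_pow j k).mul_right ((Commute.refl X.D.n).pow_pow j l))))⟩⟩
  have hWab : IsMulCommutative (D.W.subgroupOf D.P) :=
    ⟨⟨fun a b => Subtype.ext (Subtype.ext (D.comm _ a.2 _ b.2).eq)⟩⟩
  have hmax : ∀ B : Subgroup D.P, IsMulCommutative B → Nat.card B ≤ r ^ 2 := by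
    intro B hB
    obtain ⟨k, hk⟩ := IsPGroup.iff_card.mp (D.isP.to_subgroup B)
    have h1 : r ^ k ∣ r ^ 3 := hk ▸ hcard ▸ Subgroup.card_subgroup_dvd_card B
    have hk3 : k ≤ 3 := (Nat.pow_dvd_pow_iff_le_right X.prime.one_lt).mp h1
    have hne : k ≠ 3 := by
      intro e
      have htop : B = ⊤ := Subgroup.eq_top_of_card_eq B (by rw [hk, e, hcard])
      exact hp0c (congrArg (fun z : B => z.1.1) (hB.is_comm.comm ⟨⟨p0, hp0⟩, htop ▸ Subgroup.mem_top _⟩
        ⟨⟨C.φ, D.φ_mem⟩, htop ▸ Subgroup.mem_top _⟩))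
    rw [hk]
    exact Nat.pow_le_pow_right X.prime.pos (by omega)
  have hJ : Cfsg.thompsonSubgroupA D.P = ⊤ := by
    have h1 : D.W.subgroupOf D.P ≤ Cfsg.thompsonSubgroupA D.P := le_sSup ⟨hWab, fun B hB => by
      rw [Nat.card_congr (Subgroup.subgroupOfEquivOfLe D.W_le).toEquiv, h]; exact hmax B hB⟩
    have h2 : Q0.subgroupOf D.P ≤ Cfsg.thompsonSubgroupA D.P := le_sSup ⟨hQab, fun B hB => by
      rw [Nat.card_congr (Subgroup.subgroupOfEquivOfLe hQP).toEquiv, hQ0c]; exact hmax B hB⟩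
    refine eq_top_iff.mpr fun x _ => ?_
    obtain ⟨w, hw, i, e⟩ := D.decomp x.1 x.2
    rw [show x = ⟨w, D.W_le hw⟩ * ⟨C.φ ^ i, pow_mem D.φ_mem i⟩ from Subtype.ext e]
    exact mul_mem (h1 (show (⟨w, D.W_le hw⟩ : D.P) ∈ D.W.subgroupOf D.P from hw))
      (h2 (show (⟨C.φ ^ i, pow_mem D.φ_mem i⟩ : D.P) ∈ Q0.subgroupOf D.P from pow_mem hφQ i))
  have hz : Cfsg.centerThompsonAOf D.P = Z := by
    rw [centerThompson_eq hJ]
    refine le_antisymm (fun x hx => hcenter x hx.1 fun y hy => (hx.2 y hy).symm) fun x hx => ⟨hZP hx, fun y hy => ?_⟩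
    exact (hZc x hx y hy).eq.symm
  set M := Subgroup.normalizer (Z : Set G) with hM
  set A := Subgroup.centralizer ({X.D.n} : Set G) with hA
  have hAodd : ¬ 2 ∣ Nat.card A := by
    intro h2
    haveI : Fact (Nat.Prime 2) := ⟨Nat.prime_two⟩
    obtain ⟨v, hv⟩ := exists_prime_orderOf_dvd_card' (G := A) 2 h2
    exact X.n_odd (v := v.1) (by rw [Subgroup.orderOf_coe, hv]) (Subgroup.mem_centralizer_singleton_iff.mp v.2).symm
  haveI : Group.IsSolvable A := HallE8.isSolvable_of_odd hAodd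
  have hPA : D.P ≤ A := fun x hx => Subgroup.mem_centralizer_singleton_iff.mpr (hnc x hx).symm.eq
  let PA : Sylow r A := (D.isP.of_equiv (Subgroup.subgroupOfEquivOfLe hPA).symm).toSylow
    fun hd => D.index (hd.trans (Subgroup.relIndex_dvd_index_of_le hPA))
  set O := Cfsg.pPrimeCore r A with hO
  set π := QuotientGroup.mk' O
  set PB := PA.mapSurjective (QuotientGroup.mk'_surjective O)
  set nA : A := ⟨X.D.n, hPA D.n_P⟩
  haveI hZb : (Subgroup.zpowers (π nA)).Normal := ⟨by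
    rintro _ ⟨k, rfl⟩ g
    obtain ⟨g', rfl⟩ := QuotientGroup.mk'_surjective O g
    refine ⟨k, ?_⟩
    have hc : Commute g' nA := Subtype.ext (Subgroup.mem_centralizer_singleton_iff.mp g'.2)
    show π nA ^ k = π g' * π nA ^ k * (π g')⁻¹
    rw [((hc.map π).zpow_right k).eq, mul_inv_cancel_right]⟩
  set F := Cfsg.pCore r (A ⧸ O) with hF
  haveI : Group.IsSolvable (A ⧸ O) := Group.isSolvable_of_surjective (QuotientGroup.mk'_surjective O)
  set μ := QuotientGroup.mk' (Subgroup.zpowers (π nA))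
  set S := (Subgroup.centralizer ((F.map μ : Subgroup ((A ⧸ O) ⧸ Subgroup.zpowers (π nA))) :
    Set ((A ⧸ O) ⧸ Subgroup.zpowers (π nA)))).comap μ with hS
  haveI hSn : S.Normal := by
    haveI : (F.map μ).Normal := (inferInstance : F.Normal).map μ (QuotientGroup.mk'_surjective _)
    infer_instance
  have hFP : F ≤ (PB : Subgroup (A ⧸ O)) := CfsgLib.pCore_le_sylow PB
  have hPS : (PB : Subgroup (A ⧸ O)) ≤ S := by
    rintro _ ⟨x, hx, rfl⟩
    show μ (π x) ∈ Subgroup.centralizer _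
    rintro _ ⟨f, hf, rfl⟩
    obtain ⟨y, hy, rfl⟩ := hFP hf
    obtain ⟨k, hk⟩ := hcomm _ hx _ hy
    have h1 : ⁅x, y⁆ = nA ^ k := Subtype.ext (by
      show ⁅x.1, y.1⁆ = _
      rw [SubgroupClass.coe_zpow]; exact hk.symm)
    have h2 : μ (π ⁅x, y⁆) = 1 := by
      rw [h1, map_zpow]
      exact (QuotientGroup.eq_one_iff _).mpr ⟨k, rfl⟩
    rw [map_commutatorElement, map_commutatorElement, commutatorElement_eq_one_iff_mul_comm] at h2
    exact h2.symm
  have hSp : IsPGroup r S := by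
    rintro ⟨g, hg⟩
    have hFc : g ^ r ∈ F := by
      refine CfsgLib.centralizer_pCore_le X.prime (CfsgLib.pPrimeCore_quotient_eq_bot r) ?_
      intro f hf
      have h1 := (Subgroup.mem_comap.mp hg) (μ f) ⟨f, hf, rfl⟩
      have h2 : μ (g * f * g⁻¹ * f⁻¹) = 1 := by
        simp only [map_mul, map_inv]
        rw [← h1]; group
      obtain ⟨k, hk⟩ := (QuotientGroup.eq_one_iff _).mp h2
      have hcen : ∀ y : A ⧸ O, Commute (π nA ^ k) y := fun y => by
        obtain ⟨y', rfl⟩ := QuotientGroup.mk'_surjective O y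
        exact ((show Commute nA y' from
          Subtype.ext (Subgroup.mem_centralizer_singleton_iff.mp y'.2).symm).map π).zpow_left k
      have hg1 : g * f * g⁻¹ = π nA ^ k * f := by
        rw [show (π nA ^ k : A ⧸ O) = g * f * g⁻¹ * f⁻¹ from hk]; group
      have hgm : ∀ m : ℕ, g ^ m * f * (g ^ m)⁻¹ = (π nA ^ k) ^ m * f := by
        intro m
        induction m with
        | zero => simp
        | succ m ih =>
          rw [pow_succ' g, show g * g ^ m * f * (g * g ^ m)⁻¹ = g * (g ^ m * f * (g ^ m)⁻¹) * g⁻¹ by group, ih,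
            ← conj_mul, ← conj_pow, ← (hcen g).eq, mul_inv_cancel_right, hg1, ← mul_assoc, ← pow_succ]
      have h3 : (π nA ^ k) ^ r = 1 := by
        rw [← zpow_natCast, ← zpow_mul, mul_comm, zpow_mul, zpow_natCast, ← map_pow,
          show nA ^ r = 1 from Subtype.ext (by rw [SubmonoidClass.coe_pow]; exact X.n_pow), map_one, one_zpow]
      have h4 := hgm r
      rw [h3, one_mul] at h4
      exact (mul_inv_eq_iff_eq_mul.mp h4).symm
    obtain ⟨k, hk⟩ := (CfsgLib.isPGroup_pCore r : IsPGroup r F) ⟨_, hFc⟩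
    refine ⟨k + 1, Subtype.ext ?_⟩
    show g ^ r ^ (k + 1) = 1
    rw [pow_succ', pow_mul]
    exact congrArg Subtype.val hk
  have hPF : (PB : Subgroup (A ⧸ O)) = F := le_antisymm (hPS.trans (CfsgLib.le_pCore hSp)) hFP
  haveI : (PB : Subgroup (A ⧸ O)).Normal := hPF ▸ inferInstance
  set K := (PB : Subgroup (A ⧸ O)).comap π
  haveI : K.Normal := inferInstance
  have hKle : K ≤ Subgroup.normalizer ((PA : Subgroup A) : Set A) ⊔ O := by
    intro x hx
    obtain ⟨y, hy, e⟩ := hx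
    have h1 : y⁻¹ * x ∈ O := QuotientGroup.eq.mp e
    rw [show x = y * (y⁻¹ * x) by group]
    exact Subgroup.mul_mem_sup (Subgroup.le_normalizer hy) h1
  have hA' : Subgroup.normalizer ((PA : Subgroup A) : Set A) ⊔ O = ⊤ := by
    refine eq_top_iff.mpr ?_
    rw [← Sylow.normalizer_sup_eq_top' PA (N := K) (fun x hx => ⟨x, hx, rfl⟩)]
    exact sup_le le_sup_left hKle
  -- Frattini in `N(Z)`
  have hAM : A ≤ M := fun x hx => by
    refine Subgroup.centralizer_le_normalizer _ ?_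
    rintro _ ⟨k, rfl⟩
    exact ((show Commute X.D.n x from (Subgroup.mem_centralizer_singleton_iff.mp hx).symm).zpow_left k).eq
  haveI : (A.subgroupOf M).Normal := ⟨fun x hx m => by
    show ((m * x * m⁻¹ : M) : G) ∈ A
    refine Subgroup.mem_centralizer_singleton_iff.mpr ?_
    have hn' := (Subgroup.mem_normalizer_iff''.mp m.2 X.D.n).mp (Subgroup.mem_zpowers _)
    obtain ⟨k, hk⟩ := hn'
    simp only at hk
    have hxn : Commute (x : G) ((m : G)⁻¹ * X.D.n * m) := by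
      rw [← hk]
      exact (show Commute (x : G) X.D.n from Subgroup.mem_centralizer_singleton_iff.mp hx).zpow_right k
    show (m : G) * x * (m : G)⁻¹ * X.D.n = X.D.n * ((m : G) * x * (m : G)⁻¹)
    calc (m : G) * x * (m : G)⁻¹ * X.D.n = m * (x * ((m : G)⁻¹ * X.D.n * m)) * (m : G)⁻¹ := by group
      _ = m * (((m : G)⁻¹ * X.D.n * m) * x) * (m : G)⁻¹ := by rw [hxn.eq]
      _ = _ := by group⟩
  let PM : Sylow r M := (D.isP.of_equiv (Subgroup.subgroupOfEquivOfLe (hPA.trans hAM)).symm).toSylow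
    fun hd => D.index (hd.trans (Subgroup.relIndex_dvd_index_of_le (hPA.trans hAM)))
  have hMdec : ∀ m ∈ M, ∃ n1 ∈ Subgroup.normalizer (D.P : Set G), ∀ x ∈ D.P,
      m * x * m⁻¹ ∈ D.P → m * x * m⁻¹ = n1 * x * n1⁻¹ := by
    intro m hm
    have htop : A.subgroupOf M ⊔ Subgroup.normalizer ((PM : Subgroup M) : Set M) = ⊤ := by
      rw [sup_comm]; exact Sylow.normalizer_sup_eq_top' PM (fun x hx => hPA hx)
    have hm' : (⟨m, hm⟩ : M) ∈ A.subgroupOf M ⊔ Subgroup.normalizer ((PM : Subgroup M) : Set M) := by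
      rw [htop]; trivial
    rw [Subgroup.mem_sup_of_normal_left] at hm'
    obtain ⟨a, ha, n1, hn1, e⟩ := hm'
    have hm2 : (⟨a.1, ha⟩ : A) ∈ O ⊔ Subgroup.normalizer ((PA : Subgroup A) : Set A) := by
      rw [sup_comm, hA']; trivial
    rw [Subgroup.mem_sup_of_normal_left] at hm2
    obtain ⟨o, ho, n2, hn2, e2⟩ := hm2
    have e' : m = (o : G) * ((n2 : G) * (n1 : G)) := by
      have h1 : (a : G) * n1 = m := congrArg Subtype.val e
      have h2 : (o : G) * n2 = a := congrArg Subtype.val e2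
      rw [← h1, ← h2, mul_assoc]
    have hN1 : (n1 : G) ∈ Subgroup.normalizer (D.P : Set G) := Subgroup.mem_normalizer_fintype fun x hx =>
      (Subgroup.mem_normalizer_iff.mp hn1 ⟨x, hAM (hPA hx)⟩).mp hx
    have hN2 : (n2 : G) ∈ Subgroup.normalizer (D.P : Set G) := Subgroup.mem_normalizer_fintype fun x hx =>
      (Subgroup.mem_normalizer_iff.mp hn2 ⟨x, hPA hx⟩).mp hx
    refine ⟨_, mul_mem hN2 hN1, fun x hx hmx => ?_⟩
    set y := (n2 : G) * n1 * x * ((n2 : G) * n1)⁻¹ with hy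
    have hyP : y ∈ D.P := (Subgroup.mem_normalizer_iff.mp (mul_mem hN2 hN1) x).mp hx
    have hmy : m * x * m⁻¹ = o * y * (o : G)⁻¹ := by rw [e', hy]; group
    rw [hmy] at hmx ⊢
    set ya : A := ⟨y, hPA hyP⟩
    have h1 : o * ya * o⁻¹ * ya⁻¹ ∈ O := by
      rw [show o * ya * o⁻¹ * ya⁻¹ = o * (ya * o⁻¹ * ya⁻¹) by group]
      exact mul_mem ho ((inferInstance : O.Normal).conj_mem _ (inv_mem ho) ya)
    have h2 : ((o * ya * o⁻¹ * ya⁻¹ : A) : G) ∈ D.P := mul_mem hmx (inv_mem hyP)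
    obtain ⟨k, hk⟩ := D.pow_eq_one h2
    have h3 : o * ya * o⁻¹ * ya⁻¹ = 1 := by
      rw [← orderOf_eq_one_iff]
      refine Nat.eq_one_of_dvd_coprimes (Nat.Coprime.pow_right k (CfsgLib.card_pPrimeCore_coprime (G := A) r))
        (Subgroup.orderOf_dvd_natCard O h1) (orderOf_dvd_of_pow_eq_one (Subtype.ext ?_))
      rw [SubmonoidClass.coe_pow]; exact hk
    exact mul_inv_eq_one.mp (congrArg Subtype.val h3)
  -- the element `h`
  obtain ⟨a, ha⟩ := X.D.h_norm
  have hhM : X.D.h ∈ M := by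
    refine Subgroup.mem_normalizer_fintype ?_
    rintro _ ⟨k, rfl⟩
    show X.D.h * X.D.n ^ k * X.D.h⁻¹ ∈ Z
    rw [← conj_zpow, ha]
    exact Subgroup.zpow_mem _ (Subgroup.pow_mem _ (Subgroup.mem_zpowers _) a) k
  obtain ⟨h', hh'N, hh'⟩ := hMdec _ hhM
  have hφh : X.D.h * C.φ * X.D.h⁻¹ = C.φ := by rw [← (X.D.phi _ X.D.h_mem).eq, mul_inv_cancel_right]
  have h'φ : h' * C.φ * h'⁻¹ = C.φ := by
    rw [← hh' _ D.φ_mem (by rw [hφh]; exact D.φ_mem), hφh]
  have h'n : h' * X.D.n * h'⁻¹ = X.D.n ^ a := by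
    rw [← hh' _ D.n_P (by rw [ha]; exact pow_mem D.n_P a), ha]
  exact SData.false
    { Z := Z, Z_le := le_rfl,
      cardW := by rw [h, hZcard, pow_two],
      central := hZc,
      n_central := hnc,
      comm := hcomm,
      cls := fun z hz => by
        obtain ⟨l, rfl⟩ := hgen z hz
        exact ⟨p0 ^ l, pow_mem hp0 l, hpl l⟩,
      norm := fun s hs z hz => by
        refine hcenter _ ((Subgroup.mem_normalizer_iff.mp hs z).mp (hZP hz)) fun x hx => ?_
        have h1 := hZc z hz _ ((Subgroup.mem_normalizer_iff''.mp hs x).mp hx)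
        show _ = _
        calc s * z * s⁻¹ * x = s * (z * (s⁻¹ * x * s)) * s⁻¹ := by group
          _ = s * ((s⁻¹ * x * s) * z) * s⁻¹ := by rw [h1.eq]
          _ = _ := by group,
      fix := fun g hg hv => by
        have e1 : g * z0 * g⁻¹ = z0 := by
          obtain ⟨z1, hz1, e1⟩ : ∃ z1 ∈ Z, g * p0 * g⁻¹ = z1 * p0 := ⟨_, hv p0 hp0, by group⟩
          obtain ⟨z2, hz2, e2⟩ : ∃ z2 ∈ Z, g * C.φ * g⁻¹ = z2 * C.φ := ⟨_, hv _ D.φ_mem, by group⟩
          rw [hz0d, commutatorElement_def,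
            show g * (p0 * C.φ * p0⁻¹ * C.φ⁻¹) * g⁻¹ =
              (g * p0 * g⁻¹) * (g * C.φ * g⁻¹) * (g * p0 * g⁻¹)⁻¹ * (g * C.φ * g⁻¹)⁻¹ by group, e1, e2]
          calc z1 * p0 * (z2 * C.φ) * (z1 * p0)⁻¹ * (z2 * C.φ)⁻¹
              = z1 * (p0 * z2) * C.φ * p0⁻¹ * z1⁻¹ * C.φ⁻¹ * z2⁻¹ := by group
            _ = z1 * (z2 * p0) * C.φ * p0⁻¹ * (C.φ⁻¹ * z1⁻¹) * z2⁻¹ := by
              rw [(hZc z2 hz2 p0 hp0).eq, mul_assoc _ z1⁻¹, ((hZc z1 hz1 _ D.φ_mem).inv_inv).eq]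
            _ = z1 * z2 * (p0 * C.φ * p0⁻¹ * C.φ⁻¹) * z1⁻¹ * z2⁻¹ := by group
            _ = p0 * C.φ * p0⁻¹ * C.φ⁻¹ := by
              rw [← hz0d.trans (commutatorElement_def p0 C.φ)]
              rw [((hZc z1 hz1 z0 (hZP hz0)).mul_left (hZc z2 hz2 z0 (hZP hz0))).eq]
              have hc := (hZc z1 hz1 z2 (hZP hz2)).eq
              rw [hc]
              group
        obtain ⟨l, hl⟩ := hgen _ (Subgroup.mem_zpowers X.D.n)
        rw [← hl]
        exact (show Commute g z0 from mul_inv_eq_iff_eq_mul.mp e1).pow_right l,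
      h := h', h_norm := hh'N,
      h_phi := mul_inv_eq_iff_eq_mul.mp h'φ,
      h_n := fun hc => X.D.h_n (mul_inv_eq_iff_eq_mul.mp (by
        rw [ha, ← h'n, hc.eq, mul_inv_cancel_right])),
      h_pow := mul_inv_eq_iff_eq_mul.mp (by
        rw [conj_pow_pow h'n, ← conj_pow_pow ha, orderOf_dvd_iff_pow_eq_one.mp X.D.h_ord.dvd]; group),
      control := fun x hx g hg => by
        obtain ⟨m, hm, e⟩ := D.sylow_control hx hg
        rw [hz] at hm
        obtain ⟨n1, hn1, hn⟩ := hMdec m hm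
        exact ⟨n1, hn1, by rw [← hn x hx (e ▸ hg), e]⟩ }

end PData

end CfsgLib.Walter
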