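import Cfsg.Agent.Lib.HSub.Complement
import Cfsg.Agent.Lib.CoprimeGen
import Cfsg.Agent.Lib.PSolvable
import Cfsg.Agent.Lib.Quadratic.Consequences
import Cfsg.Agent.Lib.StrongFusion.LocalFree

/-!
Group theory for case (J): an involution with a small centraliser on a `r`-group, and small helpers.
-/

set_option autoImplicit false
set_option linter.unusedSectionVars false

namespace CfsgLib.Walter

universe u

/-- An odd root: `x` is a power of `x * x`. -/
theorem eq_one_of_sq {M : Type*} [Monoid M] {x : M} {n : ℕ} (hn : Odd n) (hx : x ^ n = 1) (h2 : x * x = 1) :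
    x = 1 := by
  obtain ⟨k, rfl⟩ := hn
  rw [pow_succ, pow_mul, pow_two, h2, one_pow, one_mul] at hx
  exact hx

/-- An involutory automorphism with small fixed point group has an invariant complement to it. -/
theorem exists_fpf_part {r : ℕ} [Fact r.Prime] (hr2 : r ≠ 2) (R : Type u) [Group R] [Finite R]
    (hR : IsPGroup r R) (α : R ≃* R) (hα : ∀ x, α (α x) = x) (φ : R) (hφ : orderOf φ = r)
    (hfix : ∀ x, α x = x ↔ x ∈ Subgroup.zpowers φ)
    (hC : Nat.card (Subgroup.centralizer ({φ} : Set R)) ≤ r ^ 2) :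
    ∃ W : Subgroup R, W.Normal ∧ φ ∉ W ∧ (∀ x ∈ W, α x ∈ W) ∧ W ⊔ Subgroup.zpowers φ = ⊤ := by
  obtain ⟨N, hN⟩ : ∃ N, Nat.card R = N := ⟨_, rfl⟩
  induction N using Nat.strong_induction_on generalizing R with
  | _ N ih =>
  have hrp : r.Prime := Fact.out
  have hr3 : 3 ≤ r := by have := hrp.two_le; omega
  obtain ⟨l, hl⟩ := hrp.odd_of_ne_two hr2
  have hφ1 : φ ≠ 1 := fun e => hrp.one_lt.ne (by rw [← hφ, e, orderOf_one])
  have hφf : α φ = φ := (hfix φ).mpr (Subgroup.mem_zpowers φ)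
  by_cases hc : φ ∈ Subgroup.center R
  · -- the abelian case
    have htop : Subgroup.centralizer ({φ} : Set R) = ⊤ := eq_top_iff.mpr fun x _ =>
      Subgroup.mem_centralizer_singleton_iff.mpr (Subgroup.mem_center_iff.mp hc x)
    rw [htop, Subgroup.card_top] at hC
    obtain ⟨k, hk⟩ := IsPGroup.iff_card.mp hR
    have hk2 : k ≤ 2 := (Nat.pow_le_pow_iff_right hrp.one_lt).mp (hk ▸ hC)
    have hcomm : ∀ a b : R, a * b = b * a := by
      rcases (show k ≤ 1 ∨ k = 2 by omega) with h | h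
      · haveI : IsCyclic R := by
          rcases (show k = 0 ∨ k = 1 by omega) with rfl | rfl
          · haveI := (Nat.card_eq_one_iff_unique.mp (by rw [hk, pow_zero])).1
            exact isCyclic_of_subsingleton
          · exact isCyclic_of_prime_card (p := r) (by rw [hk, pow_one])
        exact fun a b => IsMulCommutative.is_comm.comm a b
      · subst h
        exact IsPGroup.commutative_of_card_eq_prime_sq hk
    let W : Subgroup R :=
      { carrier := {x | α x = x⁻¹}
        one_mem' := by simp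
        mul_mem' := fun {a b} ha hb => by
          simp only [Set.mem_ofPred_eq] at ha hb ⊢
          rw [map_mul, ha, hb, _root_.mul_inv_rev, hcomm]
        inv_mem' := fun {a} ha => by
          simp only [Set.mem_ofPred_eq] at ha ⊢
          rw [map_inv, ha] }
    refine ⟨W, ⟨fun n hn g => by rwa [hcomm g n, mul_inv_cancel_right]⟩, fun h => ?_, fun x hx => ?_, ?_⟩
    · have h' : φ = φ⁻¹ := hφf.symm.trans h
      exact hφ1 (eq_one_of_sq (hrp.odd_of_ne_two hr2) (by rw [← hφ]; exact pow_orderOf_eq_one φ)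
        (by nth_rewrite 2 [h']; exact mul_inv_cancel φ))
    · show α (α x) = (α x)⁻¹
      rw [hα, show α x = x⁻¹ from hx, inv_inv]
    · refine eq_top_iff.mpr fun x _ => ?_
      set y := (x * α x) ^ (l + 1)
      have hyf : α y = y := by rw [map_pow, map_mul, hα, hcomm]
      have hy2 : y * y = x * α x := by
        have h1 : (x * α x) ^ r = 1 := by
          have := (hfix (x * α x)).mp (by rw [map_mul, hα, hcomm])
          obtain ⟨i, hi⟩ := this
          rw [← hi, ← zpow_natCast, ← zpow_mul, mul_comm, zpow_mul, zpow_natCast, ← hφ, pow_orderOf_eq_one, one_zpow]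
        rw [← pow_add, show l + 1 + (l + 1) = r + 1 by omega, pow_succ, h1, one_mul]
      rw [show x = x * y⁻¹ * y by group]
      refine Subgroup.mul_mem_sup ?_ ((hfix y).mp hyf)
      show α (x * y⁻¹) = (x * y⁻¹)⁻¹
      rw [map_mul, map_inv, hyf, _root_.mul_inv_rev, inv_inv, eq_comm, eq_mul_inv_iff_mul_eq, hcomm y,
        mul_assoc, hy2, inv_mul_cancel_left]
  -- a central element of order `r`, inverted
  haveI : Nontrivial R := ⟨φ, 1, hφ1⟩
  haveI := hR.center_nontrivial
  obtain ⟨m, hm⟩ := IsPGroup.iff_card.mp (hR.to_subgroup (Subgroup.center R))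
  have hm0 : m ≠ 0 := by
    rintro rfl
    exact (Finite.one_lt_card (α := Subgroup.center R)).ne' (by rw [hm, pow_zero])
  obtain ⟨⟨z, hzc⟩, hz⟩ := exists_prime_orderOf_dvd_card' (G := Subgroup.center R) r (hm ▸ dvd_pow_self r hm0)
  rw [Subgroup.orderOf_mk] at hz
  have hz1 : z ≠ 1 := fun e => hrp.one_lt.ne (by rw [← hz, e, orderOf_one])
  have hzi : α z = z⁻¹ := by
    have hac : α z ∈ Subgroup.center R := Subgroup.mem_center_iff.mpr fun g => by
      conv_lhs => rw [← hα g]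
      conv_rhs => rw [← hα g]
      rw [← map_mul, ← map_mul, Subgroup.mem_center_iff.mp hzc]
    have hmem : z * α z ∈ Subgroup.zpowers φ := (hfix _).mp (by
      rw [map_mul, hα, Subgroup.mem_center_iff.mp hzc])
    by_contra hne
    have hne' : z * α z ≠ 1 := fun e => hne (eq_inv_of_mul_eq_one_right e)
    have hgen : Subgroup.zpowers φ ≤ Subgroup.center R := by
      haveI : Fact (Nat.card (Subgroup.zpowers φ)).Prime := ⟨by rw [Nat.card_zpowers, hφ]; exact hrp⟩
      have h := Subgroup.eq_bot_or_eq_top_of_prime_card ((Subgroup.center R).subgroupOf (Subgroup.zpowers φ))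
      rcases h with h | h
      · exact absurd (Subgroup.disjoint_def.mp (Subgroup.subgroupOf_eq_bot.mp h)
          (mul_mem hzc hac) hmem) hne'
      · exact Subgroup.subgroupOf_eq_top.mp h
    exact hc (hgen (Subgroup.mem_zpowers φ))
  haveI : (Subgroup.zpowers z).Normal := ⟨fun n hn g => by
    rw [Subgroup.mem_center_iff.mp ((Subgroup.zpowers_le.mpr hzc) hn) g, mul_inv_cancel_right]
    exact hn⟩
  have hmap : (Subgroup.zpowers z).map α.toMonoidHom = Subgroup.zpowers z := by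
    rw [MonoidHom.map_zpowers]
    show Subgroup.zpowers (α z) = _
    rw [hzi, Subgroup.zpowers_inv]
  let ᾱ := QuotientGroup.congr (Subgroup.zpowers z) (Subgroup.zpowers z) α hmap
  have hᾱ : ∀ x : R, ᾱ (x : R ⧸ Subgroup.zpowers z) = (α x : R ⧸ Subgroup.zpowers z) := fun x => rfl
  have hφz : φ ∉ Subgroup.zpowers z := fun h => hc (Subgroup.zpowers_le.mpr hzc h)
  have hφo : orderOf (φ : R ⧸ Subgroup.zpowers z) = r := by
    refine orderOf_eq_prime ?_ (fun e => hφz ((QuotientGroup.eq_one_iff φ).mp e))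
    rw [← QuotientGroup.mk_pow, ← hφ, pow_orderOf_eq_one, QuotientGroup.mk_one]
  have hzr : ∀ i : ℤ, (z ^ i) ^ r = 1 := fun i => by
    rw [← zpow_natCast (z ^ i), ← zpow_mul, mul_comm, zpow_mul, zpow_natCast, ← hz, pow_orderOf_eq_one, one_zpow]
  have hfix' : ∀ x : R ⧸ Subgroup.zpowers z,
      ᾱ x = x ↔ x ∈ Subgroup.zpowers (φ : R ⧸ Subgroup.zpowers z) := by
    intro x
    induction x using QuotientGroup.induction_on with
    | _ x =>
    constructor
    · intro h
      rw [hᾱ, eq_comm, QuotientGroup.eq] at h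
      obtain ⟨i, hi⟩ := h
      set w := (z ^ i) ^ (l + 1) with hw
      have hww : w * w = z ^ i := by
        rw [hw, ← pow_add, show l + 1 + (l + 1) = r + 1 by omega, pow_succ, hzr, one_mul]
      have hwi : α w = w⁻¹ := by rw [hw, map_pow, map_zpow, hzi, inv_zpow, inv_pow]
      have hx : α (x * w) = x * w := by
        rw [map_mul, hwi, mul_inv_eq_iff_eq_mul, mul_assoc, hww]
        exact (eq_mul_of_inv_mul_eq hi.symm).trans rfl
      obtain ⟨j, hj⟩ := (hfix _).mp hx
      simp only at hj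
      refine ⟨j, ?_⟩
      show (φ : R ⧸ Subgroup.zpowers z) ^ j = _
      rw [← QuotientGroup.mk_zpow, hj, QuotientGroup.mk_mul,
        (QuotientGroup.eq_one_iff w).mpr (Subgroup.pow_mem _ (Subgroup.zpow_mem _ (Subgroup.mem_zpowers z) i) _),
        mul_one]
    · rintro ⟨j, hj⟩
      have hj' : ((φ ^ j : R) : R ⧸ Subgroup.zpowers z) = (x : R ⧸ Subgroup.zpowers z) := by
        rw [QuotientGroup.mk_zpow]; exact hj
      rw [← hj', hᾱ, map_zpow, hφf]
  -- the centraliser in the quotient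
  have hC' : Nat.card (Subgroup.centralizer ({(φ : R ⧸ Subgroup.zpowers z)} : Set (R ⧸ Subgroup.zpowers z))) ≤
      r ^ 2 := by
    set E := (Subgroup.centralizer ({(φ : R ⧸ Subgroup.zpowers z)} : Set (R ⧸ Subgroup.zpowers z))).comap
      (QuotientGroup.mk' (Subgroup.zpowers z)) with hE
    have hEz : ∀ e ∈ E, e * φ * e⁻¹ * φ⁻¹ ∈ Subgroup.zpowers z := fun e he => by
      rw [← QuotientGroup.eq_one_iff]
      simp only [QuotientGroup.mk_mul, QuotientGroup.mk_inv]
      rw [show (e : R ⧸ Subgroup.zpowers z) * φ = φ * e from Subgroup.mem_centralizer_singleton_iff.mp he]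
      group
    let f : E →* Subgroup.zpowers z :=
      { toFun := fun e => ⟨e.1 * φ * e.1⁻¹ * φ⁻¹, hEz e.1 e.2⟩
        map_one' := Subtype.ext (by simp)
        map_mul' := fun a b => Subtype.ext (by
          have hb := Subgroup.mem_center_iff.mp (Subgroup.zpowers_le.mpr hzc (hEz b.1 b.2))
          show a.1 * b.1 * φ * (a.1 * b.1)⁻¹ * φ⁻¹ = a.1 * φ * a.1⁻¹ * φ⁻¹ * (b.1 * φ * b.1⁻¹ * φ⁻¹)
          calc a.1 * b.1 * φ * (a.1 * b.1)⁻¹ * φ⁻¹
              = a.1 * (b.1 * φ * b.1⁻¹ * φ⁻¹) * (φ * a.1⁻¹ * φ⁻¹) := by group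
            _ = (b.1 * φ * b.1⁻¹ * φ⁻¹) * a.1 * (φ * a.1⁻¹ * φ⁻¹) := by rw [hb]
            _ = (b.1 * φ * b.1⁻¹ * φ⁻¹) * (a.1 * φ * a.1⁻¹ * φ⁻¹) := by group
            _ = _ := (hb _).symm) }
    have hker : f.ker ≤ (Subgroup.centralizer ({φ} : Set R)).subgroupOf E := fun e he => by
      have h : e.1 * φ * e.1⁻¹ * φ⁻¹ = 1 := congrArg Subtype.val (MonoidHom.mem_ker.mp he)
      rw [mul_inv_eq_one, mul_inv_eq_iff_eq_mul] at h
      exact Subgroup.mem_centralizer_singleton_iff.mpr h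
    have hker2 : Nat.card f.ker ≤ r ^ 2 := by
      refine le_trans ?_ hC
      refine (Subgroup.card_le_of_le hker).trans (le_trans ?_ le_rfl)
      exact Nat.card_le_card_of_injective (fun x => (⟨x.1.1, x.2⟩ : Subgroup.centralizer ({φ} : Set R)))
        fun a b h => Subtype.ext (Subtype.ext (congrArg (fun w => w.1) h :))
    have hE3 : Nat.card E ≤ r * r ^ 2 := by
      rw [← f.ker.index_mul_card, Subgroup.index_ker]
      refine Nat.mul_le_mul ((Subgroup.card_le_card_group f.range).trans ?_) hker2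
      rw [Nat.card_zpowers, hz]
    have hEc : Nat.card E = r *
        Nat.card (Subgroup.centralizer ({(φ : R ⧸ Subgroup.zpowers z)} : Set (R ⧸ Subgroup.zpowers z))) := by
      rw [hE, CfsgLib.card_comap_mk, Nat.card_zpowers, hz]
    rw [hEc] at hE3
    exact Nat.le_of_mul_le_mul_left hE3 hrp.pos
  have hlt : Nat.card (R ⧸ Subgroup.zpowers z) < N := by
    rw [← hN, Subgroup.card_eq_card_quotient_mul_card_subgroup (Subgroup.zpowers z), Nat.card_zpowers, hz]
    exact lt_mul_of_one_lt_right Nat.card_pos hrp.one_lt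
  obtain ⟨W', hW'n, hW'φ, hW'α, hW'⟩ := ih _ hlt (R ⧸ Subgroup.zpowers z) (hR.to_quotient _) ᾱ
    (fun x => by induction x using QuotientGroup.induction_on with | _ x => rw [hᾱ, hᾱ, hα])
    _ hφo hfix' hC' rfl
  refine ⟨W'.comap (QuotientGroup.mk' _), hW'n.comap _, hW'φ, fun x hx => ?_, ?_⟩
  · show ((α x : R) : R ⧸ Subgroup.zpowers z) ∈ W'
    rw [← hᾱ]
    exact hW'α _ hx
  · refine eq_top_iff.mpr fun x _ => ?_
    have hx : (x : R ⧸ Subgroup.zpowers z) ∈ W' ⊔ Subgroup.zpowers (φ : R ⧸ Subgroup.zpowers z) := by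
      rw [hW']; trivial
    rw [Subgroup.mem_sup_of_normal_left] at hx
    obtain ⟨w, hw, _, ⟨j, rfl⟩, e⟩ := hx
    rw [show x = x * (φ ^ j)⁻¹ * φ ^ j by group]
    refine Subgroup.mul_mem_sup ?_ (Subgroup.zpow_mem _ (Subgroup.mem_zpowers φ) j)
    show ((x * (φ ^ j)⁻¹ : R) : R ⧸ Subgroup.zpowers z) ∈ W'
    rw [QuotientGroup.mk_mul, QuotientGroup.mk_inv, QuotientGroup.mk_zpow, ← e]
    simpa using hw

variable {G : Type u} [Group G] [Finite G]

/-- A four-group with small centralisers cannot normalise a group of odd order. -/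
theorem four_le_centralizer {V Q : Subgroup G} (hV : Nat.card V = 4) (hsq : ∀ v ∈ V, v * v = 1)
    (hQ : Odd (Nat.card Q)) (hVQ : V ≤ Subgroup.normalizer (Q : Set G))
    (hc : ∀ v ∈ V, v ≠ 1 → ∀ a ∈ V, ∀ x ∈ Q, Commute v x → Commute a x) :
    Q ≤ Subgroup.centralizer (V : Set G) := by
  haveI : IsMulCommutative V := ⟨⟨fun a b => by
    refine Subtype.ext ?_
    show a.1 * b.1 = b.1 * a.1
    have hi : ∀ v ∈ V, v⁻¹ = v := fun v hv => inv_eq_of_mul_eq_one_right (hsq v hv)
    rw [← hi _ (mul_mem a.2 b.2), _root_.mul_inv_rev, hi _ a.2, hi _ b.2]⟩⟩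
  have hnc : ¬ IsCyclic V := by
    intro h
    obtain ⟨g, hg⟩ := h.exists_generator
    have h4 : orderOf g = 4 := by rw [← hV, orderOf_eq_card_of_forall_mem_zpowers hg]
    have : orderOf g ∣ 2 := orderOf_dvd_of_pow_eq_one (Subtype.ext (by simpa [pow_two] using hsq g.1 g.2))
    have := Nat.le_of_dvd two_pos this
    omega
  have hcop : (Nat.card V).Coprime (Nat.card Q) := by
    rw [hV, show (4 : ℕ) = 2 ^ 2 from rfl]
    exact Nat.Coprime.pow_left _ (Nat.coprime_two_left.mpr hQ)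
  intro x hx
  have hgen := CfsgLib.coprime_generated_by_centralizers hnc hVQ hcop
  rw [← hgen] at hx
  refine (iSup₂_le fun v hv => ?_ : (⨆ a ∈ {a : G | a ∈ V ∧ a ≠ 1}, Q ⊓ Subgroup.centralizer {a}) ≤ _) hx
  intro y hy a ha
  exact (hc v hv.1 hv.2 a ha y hy.1 (Subgroup.mem_centralizer_singleton_iff.mp hy.2).symm).eq

/-- Abelian Sylow two-subgroups exclude the sections `Qd(p)`. -/
theorem qd_free {p : ℕ} [Fact p.Prime] (hp : p ≠ 2) (hab : ∀ P : Sylow 2 G, ∀ a b : P, a * b = b * a) :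
    ¬ Cfsg.Involves (Cfsg.qd p) G := by
  intro h
  obtain ⟨K, R, hR, ⟨e⟩⟩ := CfsgLib.StrongFusion.involves_sl2_of_involves_qd h
  have T : Sylow 2 (⊤ : Subgroup G) := default
  have hT : IsMulCommutative (T : Subgroup (⊤ : Subgroup G)) := by
    obtain ⟨S, hS⟩ := (T.2.map (⊤ : Subgroup G).subtype).exists_le_sylow
    exact ⟨⟨fun a b => Subtype.ext (Subtype.ext
      (congrArg Subtype.val (hab S ⟨_, hS ⟨a.1, a.2, rfl⟩⟩ ⟨_, hS ⟨b.1, b.2, rfl⟩⟩) :))⟩⟩
  exact CfsgLib.Quadratic.no_sl2_of_isMulCommutative hp T hT le_top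
    (e.toMonoidHom.comp (QuotientGroup.mk' (R.subgroupOf K)))
    (e.surjective.comp (QuotientGroup.mk'_surjective _))

/-- A prime `q` acting on an `r`-group of order at most `r³` with `q ∤ r^i - 1` centralises it. -/
theorem commute_of_small {r q : ℕ} (hr : r.Prime) (hq : q.Prime) (hqr : q ≠ r)
    (hi : ∀ i ∈ [1, 2, 3], r ^ i % q ≠ 1) {P : Subgroup G} {k : ℕ} (hP : Nat.card P = r ^ k) (hk : k ≤ 3) {g : G}
    (hg : orderOf g = q) (hgP : g ∈ Subgroup.normalizer (P : Set G)) {x : G} (hx : x ∈ P) : Commute g x := by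
  haveI : Fact q.Prime := ⟨hq⟩
  have hgp : IsPGroup q (Subgroup.zpowers g) := IsPGroup.of_card (n := 1) (by rw [Nat.card_zpowers, hg, pow_one])
  have hzN : Subgroup.zpowers g ≤ Subgroup.normalizer (P : Set G) := Subgroup.zpowers_le.mpr hgP
  letI : MulAction (Subgroup.zpowers g) P :=
    { smul := fun a y => ⟨a.1 * y.1 * a.1⁻¹, (Subgroup.mem_normalizer_iff.mp (hzN a.2) _).mp y.2⟩
      one_smul := fun y => Subtype.ext (by show (1 : G) * y.1 * (1 : G)⁻¹ = y.1; group)
      mul_smul := fun a b y => Subtype.ext (by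
        show (a.1 * b.1) * y.1 * (a.1 * b.1)⁻¹ = a.1 * (b.1 * y.1 * b.1⁻¹) * a.1⁻¹; group) }
  have hmod := hgp.card_modEq_card_fixedPoints (α := P)
  let Cg : Subgroup G := P ⊓ Subgroup.centralizer ({g} : Set G)
  have hfixed : Nat.card (MulAction.fixedPoints (Subgroup.zpowers g) P) = Nat.card Cg := by
    refine Nat.card_congr
      ⟨fun y => ⟨y.1.1, y.1.2, ?_⟩, fun y => ⟨⟨y.1, y.2.1⟩, fun a => ?_⟩, fun y => rfl, fun y => rfl⟩
    · have h := congrArg Subtype.val (y.2 ⟨g, Subgroup.mem_zpowers g⟩)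
      exact Subgroup.mem_centralizer_singleton_iff.mpr (mul_inv_eq_iff_eq_mul.mp (h : g * y.1.1 * g⁻¹ = y.1.1)).symm
    · obtain ⟨j, hj⟩ := a.2
      refine Subtype.ext ?_
      show a.1 * y.1 * a.1⁻¹ = y.1
      rw [← hj, mul_inv_eq_iff_eq_mul]
      exact ((show Commute y.1 g from Subgroup.mem_centralizer_singleton_iff.mp y.2.2).symm.zpow_left j).eq
  obtain ⟨j, hjk, hj⟩ := (Nat.dvd_prime_pow hr).mp (hP ▸ Subgroup.card_dvd_of_le (inf_le_left : Cg ≤ P))
  rw [hfixed, hP, hj] at hmod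
  have hjk' : j = k := by
    by_contra hne
    obtain ⟨i, rfl⟩ : ∃ i, k = j + i := ⟨k - j, by omega⟩
    have h1 : r ^ j * r ^ i ≡ r ^ j * 1 [MOD q] := by rw [mul_one, ← pow_add]; exact hmod
    have h2 : r ^ i ≡ 1 [MOD q] := Nat.ModEq.cancel_left_of_coprime
      (Nat.Coprime.pow_right j ((Nat.coprime_primes hq hr).mpr hqr)) h1
    rw [Nat.ModEq, Nat.one_mod_eq_one.mpr hq.one_lt.ne'] at h2
    exact hi i (by simp; omega) h2
  have heq : Cg = P := Subgroup.eq_of_le_of_card_ge inf_le_left (by rw [hj, hP, hjk'])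
  rw [← heq] at hx
  exact (Subgroup.mem_centralizer_singleton_iff.mp hx.2).symm

/-- Invariant Sylow subgroups above, when the normaliser has two-part `2`. -/
theorem exists_larger {r : ℕ} [Fact r.Prime] (hr2 : r ≠ 2) {P : Subgroup G} (hP : IsPGroup r P) {u : G}
    (hu : orderOf u = 2) (huP : u ∈ Subgroup.normalizer (P : Set G))
    (h4 : ¬ 4 ∣ Nat.card (Subgroup.normalizer (P : Set G))) (hdvd : r ∣ P.index) :
    ∃ Q : Subgroup G, IsPGroup r Q ∧ P ≤ Q ∧ Nat.card P < Nat.card Q ∧ u ∈ Subgroup.normalizer (Q : Set G) := by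
  haveI h2f : Fact (Nat.Prime 2) := ⟨Nat.prime_two⟩
  set R := Subgroup.normalizer (P : Set G) with hR
  obtain ⟨T⟩ : Nonempty (Sylow 2 R) := inferInstance
  have hTc : IsCyclic T := by
    obtain ⟨a, ha⟩ := IsPGroup.iff_card.mp T.2
    have ha2 : a < 2 := by
      by_contra hc
      exact h4 ((pow_dvd_pow 2 (show 2 ≤ a by omega)).trans (ha ▸ Subgroup.card_subgroup_dvd_card _))
    rcases (show a = 0 ∨ a = 1 by omega) with rfl | rfl
    · haveI := (Nat.card_eq_one_iff_unique.mp (by rw [ha, pow_zero])).1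
      exact isCyclic_of_subsingleton
    · exact isCyclic_of_prime_card (p := 2) (by rw [ha, pow_one])
  haveI := hTc
  obtain ⟨T', K, hKn, hK⟩ := CfsgLib.HSub.hasNormalPComplement_of_cyclic (fun q hq _ => hq.two_le) T hTc
  haveI := hKn
  have hKi : K.index = Nat.card (T' : Subgroup R) := hK.symm.index_eq_card
  have hKodd : Odd (Nat.card K) := by
    rw [Nat.odd_iff]
    refine Nat.two_dvd_ne_zero.mp fun h2 => T'.not_dvd_index ?_
    rwa [hK.index_eq_card] at *
  haveI : Fact r.Prime := inferInstance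
  have hr : r.Prime := Fact.out
  -- an invariant Sylow subgroup of the complement
  haveI := Fintype.ofFinite (Sylow r K)
  set α : MulAut K := MulAut.conjNormal (⟨u, huP⟩ : R) with hα
  let e : Equiv.Perm (Sylow r K) := MulAction.toPerm α
  have he : e ^ 2 ^ 1 = 1 := by
    refine Equiv.ext fun Q => ?_
    show α • α • Q = Q
    rw [← mul_smul, hα, ← map_mul, show (⟨u, huP⟩ : R) * ⟨u, huP⟩ = 1 from
      Subtype.ext (by show u * u = 1; rw [← pow_two, ← hu, pow_orderOf_eq_one]), map_one, one_smul]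
  obtain ⟨Q, hQ⟩ := Equiv.Perm.exists_fixed_point_of_prime (p := 2) (n := 1) (by
    rw [← Nat.card_eq_fintype_card]
    intro h
    have := Nat.odd_iff.mp (hKodd.of_dvd_nat ((Sylow.card_dvd_index (default : Sylow r K)).trans
      (Subgroup.index_dvd_card _)))
    omega) he
  set PR := P.subgroupOf R with hPR
  haveI : PR.Normal := Subgroup.normal_in_normalizer
  have hPRp : IsPGroup r PR := hP.of_equiv (Subgroup.subgroupOfEquivOfLe Subgroup.le_normalizer).symm
  have hcard : Nat.card PR = Nat.card P :=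
    Nat.card_congr (Subgroup.subgroupOfEquivOfLe Subgroup.le_normalizer).toEquiv
  have hodd : ∀ {n : ℕ}, Odd n → n ∣ Nat.card (T' : Subgroup R) → n = 1 := by
    intro n hn hd
    obtain ⟨a, ha⟩ := IsPGroup.iff_card.mp T'.2
    rw [ha] at hd
    exact Nat.eq_one_of_dvd_coprimes (Nat.Coprime.pow_right a (Nat.coprime_two_right.mpr hn)) dvd_rfl hd
  have hPK : PR ≤ K := by
    intro x hx
    rw [← QuotientGroup.eq_one_iff, ← orderOf_eq_one_iff]
    obtain ⟨a, ha⟩ := hPRp.exists_card_eq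
    refine hodd ?_ (hKi ▸ orderOf_dvd_natCard _)
    refine Odd.of_dvd_nat ((hr.odd_of_ne_two hr2).pow (n := a)) ((orderOf_map_dvd (QuotientGroup.mk' K) x).trans ?_)
    rw [← ha]
    exact Subgroup.orderOf_dvd_natCard PR hx
  have hPKQ : PR.subgroupOf K ≤ (Q : Subgroup K) := by
    haveI : (PR.subgroupOf K).Normal := Subgroup.normal_subgroupOf
    exact (hPRp.of_equiv (Subgroup.subgroupOfEquivOfLe hPK).symm).le_sylow_of_normal Q
  refine ⟨((Q : Subgroup K).map K.subtype).map R.subtype, (Q.2.map _).map _, fun x hx => ?_, ?_, ?_⟩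
  · exact ⟨⟨x, Subgroup.le_normalizer hx⟩, ⟨⟨_, hPK (show (⟨x, Subgroup.le_normalizer hx⟩ : R) ∈ PR from hx)⟩,
      hPKQ (show (⟨x, Subgroup.le_normalizer hx⟩ : R) ∈ PR from hx), rfl⟩, rfl⟩
  · rw [Subgroup.card_map_of_injective R.subtype_injective, Subgroup.card_map_of_injective K.subtype_injective,
      Sylow.card_eq_multiplicity]
    obtain ⟨a, ha⟩ := hP.exists_card_eq
    rw [ha]
    refine Nat.pow_lt_pow_right hr.one_lt ?_
    rw [Nat.lt_iff_add_one_le, ← hr.pow_dvd_iff_le_factorization Nat.card_pos.ne']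
    have h1 : r ^ (a + 1) ∣ Nat.card G := by
      rw [← P.card_mul_index, ha, pow_succ]
      exact mul_dvd_mul_left _ hdvd
    have h2 := Sylow.prime_dvd_card_quotient_normalizer h1 ha
    rw [← Subgroup.index_eq_card] at h2
    have h3 : r ^ (a + 1) ∣ Nat.card R := by
      rw [← PR.card_mul_index, hcard, ha, pow_succ]
      exact mul_dvd_mul_left _ h2
    rw [← K.card_mul_index, hKi] at h3
    refine (Nat.Coprime.dvd_of_dvd_mul_right ?_ h3)
    obtain ⟨b, hb⟩ := IsPGroup.iff_card.mp T'.2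
    rw [hb]
    exact Nat.Coprime.pow _ _ ((Nat.coprime_primes hr Nat.prime_two).mpr hr2)
  · refine Subgroup.mem_normalizer_fintype ?_
    rintro _ ⟨_, ⟨k, hk, rfl⟩, rfl⟩
    refine ⟨_, ⟨α k, ?_, rfl⟩, rfl⟩
    have hQ' : α • Q = Q := hQ
    rw [← hQ', Sylow.pointwise_smul_def]
    exact ⟨k, hk, rfl⟩

end CfsgLib.Walter
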