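import Cfsg.Agent.Lib.Walter.Setup
import Cfsg.Agent.Lib.Walter.J1Local.Tools
import Cfsg.Agent.Lib.MinNonCA.AbelianFinal

/-!
The centraliser of an involution in case (J): its elements of `r`-power order.
-/

set_option autoImplicit false
set_option linter.unusedSectionVars false

namespace CfsgLib.Walter

universe u

variable {G : Type u} [Group G]

local notation "PSL₂[" K "]" => Matrix.ProjectiveSpecialLinearGroup (Fin 2) K

namespace Coord

variable (C : Coord G)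

/-- The part `⟨t⟩ × L` of `C(t)`. -/
def base : Subgroup G := Subgroup.zpowers C.t ⊔ C.ι.range

theorem mem_base {g : G} : g ∈ C.base ↔ ∃ (i : Fin 2) (x : PSL₂[C.F]), g = C.t ^ (i : ℕ) * C.ι x := by
  constructor
  · intro h
    have hn : Subgroup.zpowers C.t ≤ Subgroup.normalizer (C.ι.range : Set G) := by
      refine Subgroup.zpowers_le.mpr (Subgroup.centralizer_le_normalizer _ ?_)
      rintro _ ⟨x, rfl⟩
      exact (C.t_ι x).eq.symm
    rw [base, ← SetLike.mem_coe, Subgroup.coe_mul_of_left_le_normalizer_right _ _ hn] at h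
    obtain ⟨_, ⟨k, rfl⟩, _, ⟨x, rfl⟩, rfl⟩ := h
    rcases Int.emod_two_eq_zero_or_one k with hk | hk
    · exact ⟨0, x, by
        show C.t ^ k * _ = _
        rw [zpow_eq_zpow_emod' k (by rw [pow_two, C.tt] : C.t ^ 2 = 1), show ((2 : ℕ) : ℤ) = 2 from rfl, hk]; simp⟩
    · exact ⟨1, x, by
        show C.t ^ k * _ = _
        rw [zpow_eq_zpow_emod' k (by rw [pow_two, C.tt] : C.t ^ 2 = 1), show ((2 : ℕ) : ℤ) = 2 from rfl, hk]; simp⟩
  · rintro ⟨i, x, rfl⟩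
    exact Subgroup.mul_mem_sup (Subgroup.pow_mem _ (Subgroup.mem_zpowers _) _) ⟨x, rfl⟩

theorem base_comm {g : G} (h : g ∈ C.base) : Commute g C.t := by
  obtain ⟨i, x, rfl⟩ := C.mem_base.mp h
  exact ((Commute.refl C.t).pow_left _).mul_left (C.t_ι x).symm

theorem base_conj {c g : G} (hc : Commute c C.t) (h : g ∈ C.base) : c * g * c⁻¹ ∈ C.base := by
  obtain ⟨i, x, rfl⟩ := C.mem_base.mp h
  obtain ⟨y, hy⟩ := C.normal_ι hc x
  refine C.mem_base.mpr ⟨i, y, ?_⟩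
  rw [hy, ← mul_assoc c, (hc.pow_right (i : ℕ)).eq]
  group

theorem decomp {g : G} (hg : Commute g C.t) : ∃ k ∈ C.base, ∃ j : ℕ, g = k * C.φ ^ j := by
  obtain ⟨i, x, j, rfl⟩ := C.cent g hg
  exact ⟨_, C.mem_base.mpr ⟨i, x, rfl⟩, j, rfl⟩

theorem φ_pow_base {j : ℕ} (h : C.φ ^ j ∈ C.base) : C.φ ^ j = 1 := by
  obtain ⟨i, x, e⟩ := C.mem_base.mp h
  have hj : C.φ ^ j * C.φ ^ (j * (orderOf C.σ - 1)) = 1 := by
    rw [← pow_add, show j + j * (orderOf C.σ - 1) = j * orderOf C.σ by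
      obtain ⟨k, hk⟩ := C.odd_f
      rw [hk, show 2 * k + 1 - 1 = 2 * k by omega]; ring,
      mul_comm, pow_mul, ← C.φ_ord, pow_orderOf_eq_one, one_pow]
  rw [e] at hj
  have := (C.unique hj).2.2
  rw [this, mul_one] at hj
  rw [e]; exact hj

theorem comm_mem_base {a x : G} (ha : Commute a C.t) (hx : Commute x C.t) : a * x * a⁻¹ * x⁻¹ ∈ C.base := by
  obtain ⟨k, hk, j, rfl⟩ := C.decomp ha
  obtain ⟨k', hk', i, rfl⟩ := C.decomp hx
  have e : k * C.φ ^ j * (k' * C.φ ^ i) * (k * C.φ ^ j)⁻¹ * (k' * C.φ ^ i)⁻¹ =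
      k * (C.φ ^ j * k' * (C.φ ^ j)⁻¹) * (C.φ ^ i * k⁻¹ * (C.φ ^ i)⁻¹) * k'⁻¹ := by group
  rw [e]
  exact mul_mem (mul_mem (mul_mem hk (C.base_conj (C.t_φ.symm.pow_left j) hk'))
    (C.base_conj (C.t_φ.symm.pow_left i) (inv_mem hk))) (inv_mem hk')

variable [Finite G] {r : ℕ} [Fact r.Prime]

theorem base_eq_one (hr2 : r ≠ 2) (hL : ¬ r ∣ Nat.card PSL₂[C.F]) {g : G} (h : g ∈ C.base) {k : ℕ}
    (hg : g ^ r ^ k = 1) : g = 1 := by
  have hr : r.Prime := Fact.out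
  have hdvd : orderOf g ∣ 2 * Nat.card PSL₂[C.F] := by
    obtain ⟨i, x, rfl⟩ := C.mem_base.mp h
    refine orderOf_dvd_of_pow_eq_one ?_
    rw [((C.t_ι x).pow_left _).mul_pow, ← pow_mul, ← map_pow, mul_comm (i : ℕ), mul_assoc 2, pow_mul C.t,
      pow_two, C.tt, one_pow, one_mul, mul_comm 2, pow_mul, pow_card_eq_one', one_pow, map_one]
  rw [← orderOf_eq_one_iff]
  refine Nat.eq_one_of_dvd_coprimes (Nat.Coprime.pow_left k ?_) (orderOf_dvd_of_pow_eq_one hg) hdvd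
  exact Nat.Coprime.mul_right ((Nat.coprime_primes hr Nat.prime_two).mpr hr2) (hr.coprime_iff_not_dvd.mpr hL)

theorem card_le (hr2 : r ≠ 2) (hord : orderOf C.σ = r) (hL : ¬ r ∣ Nat.card PSL₂[C.F]) {Q : Subgroup G}
    (hQ : IsPGroup r Q) (hQt : ∀ q ∈ Q, Commute q C.t) : Nat.card Q ≤ r := by
  have hr : r.Prime := Fact.out
  choose k hk j hj using fun q : Q => C.decomp (hQt q.1 q.2)
  have key : Function.Injective fun q : Q => (⟨j q % r, Nat.mod_lt _ hr.pos⟩ : Fin r) := by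
    intro q q' h
    have e : C.φ ^ j q = C.φ ^ j q' := by
      rw [pow_eq_pow_iff_modEq, C.φ_ord, hord]
      exact congrArg Fin.val h
    have hb : q.1 * q'.1⁻¹ ∈ C.base := by
      rw [hj q, hj q', e, show k q * C.φ ^ j q' * (k q' * C.φ ^ j q')⁻¹ = k q * (k q')⁻¹ by group]
      exact mul_mem (hk q) (inv_mem (hk q'))
    obtain ⟨m, hm⟩ := hQ (q * q'⁻¹)
    have := C.base_eq_one hr2 hL hb (k := m) (congrArg Subtype.val hm)
    exact Subtype.ext (mul_inv_eq_one.mp this)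
  simpa using Nat.card_le_card_of_injective _ key

/-- An element of `C(t)` moving an `r`-element inside an `r`-group centralises it. -/
theorem rinj (hr2 : r ≠ 2) (hL : ¬ r ∣ Nat.card PSL₂[C.F]) {Q : Subgroup G} (hQ : IsPGroup r Q) {a x : G}
    (ha : Commute a C.t) (hxt : Commute x C.t) (hx : x ∈ Q) (hax : a * x * a⁻¹ ∈ Q) : Commute a x := by
  obtain ⟨m, hm⟩ := hQ ⟨_, mul_mem hax (inv_mem hx)⟩
  exact mul_inv_eq_iff_eq_mul.mp (mul_inv_eq_one.mp
    (C.base_eq_one hr2 hL (C.comm_mem_base ha hxt) (k := m) (congrArg Subtype.val hm)))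

/-- An `r`-element of `C(t)` is conjugate in it to a power of `φ`. -/
theorem r_elem (hr2 : r ≠ 2) (hord : orderOf C.σ = r) (hL : ¬ r ∣ Nat.card PSL₂[C.F]) {g : G} (hg : Commute g C.t)
    {k : ℕ} (hk : g ^ r ^ k = 1) : ∃ (c : G) (j : ℕ), Commute c C.t ∧ c * g * c⁻¹ = C.φ ^ j := by
  have hr : r.Prime := Fact.out
  set Ct := Subgroup.centralizer ({C.t} : Set G)
  have hmem : ∀ {y : G}, Commute y C.t → y ∈ Ct := fun h => Subgroup.mem_centralizer_singleton_iff.mpr h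
  have hmem' : ∀ {y : G}, y ∈ Ct → Commute y C.t := fun h => Subgroup.mem_centralizer_singleton_iff.mp h
  set φ' : Ct := ⟨C.φ, hmem C.t_φ.symm⟩
  have hφo : Nat.card (Subgroup.zpowers φ') = r := by rw [Nat.card_zpowers, Subgroup.orderOf_mk, C.φ_ord, hord]
  obtain ⟨S, hS⟩ := (IsPGroup.of_card (n := 1) (hφo.trans (pow_one r).symm)).exists_le_sylow (p := r)
  have hSeq : Subgroup.zpowers φ' = (S : Subgroup Ct) := Subgroup.eq_of_le_of_card_ge hS (by
    rw [hφo, ← Subgroup.card_map_of_injective Ct.subtype_injective]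
    refine C.card_le hr2 hord hL (S.2.map _) ?_
    rintro _ ⟨y, -, rfl⟩
    exact hmem' y.2)
  have hp : IsPGroup r (Subgroup.zpowers (⟨g, hmem hg⟩ : Ct)) := by
    obtain ⟨i, -, hi⟩ := (Nat.dvd_prime_pow hr).mp (orderOf_dvd_of_pow_eq_one hk)
    exact IsPGroup.of_card (n := i) (by rw [Nat.card_zpowers, Subgroup.orderOf_mk, hi])
  obtain ⟨T, hT⟩ := hp.exists_le_sylow
  obtain ⟨c, hc⟩ := MulAction.exists_smul_eq Ct T S
  have h : c * ⟨g, hmem hg⟩ * c⁻¹ ∈ Subgroup.zpowers φ' := by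
    rw [hSeq, ← hc, Sylow.coe_subgroup_smul]
    exact ⟨_, hT (Subgroup.mem_zpowers _), rfl⟩
  obtain ⟨j, hj⟩ := (isOfFinOrder_of_finite φ').mem_powers_iff_mem_zpowers.mpr h
  exact ⟨c.1, j, hmem' c.2, (congrArg Subtype.val hj).symm⟩

end Coord

/-- `r` does not divide the order of `L₂(5^r)`. -/
theorem not_dvd_psl {r : ℕ} (hr : r = 7 ∨ r = 11 ∨ r = 19) {F : Type} [Field F] [Fintype F] (hF : Fintype.card F = 5 ^ r) :
    ¬ r ∣ Nat.card PSL₂[F] := by
  intro h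
  have hodd : Odd (Fintype.card F) := hF ▸ (show Odd 5 by decide).pow
  have h2 := (Dvd.dvd.mul_left h 2)
  rw [CfsgLib.MinNonCA.card_PSL_two hodd, hF] at h2
  rcases hr with rfl | rfl | rfl <;> norm_num at h2

end CfsgLib.Walter
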