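import Cfsg.Agent.Lib.Walter.J1Local.SylowR

/-!
Case (J): general facts about `P = W⟨φ⟩`, and the criterion against simplicity.
-/

set_option autoImplicit false
set_option linter.unusedSectionVars false

namespace CfsgLib.Walter

open scoped commutatorElement

universe u

variable {G : Type u} [Group G] [Finite G] {C : Coord G} {r : ℕ} {X : Ctx C r}

namespace PData

variable (D : PData X)
include D

theorem φ_pow_r : C.φ ^ r = 1 := orderOf_dvd_iff_pow_eq_one.mp X.φ_ord.dvd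

theorem n_P : X.D.n ∈ D.P := D.W_le D.n_mem

theorem W_isP : IsPGroup r D.W := D.isP.to_le D.W_le

theorem pow_eq_one {x : G} (hx : x ∈ D.P) : ∃ k : ℕ, x ^ r ^ k = 1 := by
  obtain ⟨k, hk⟩ := D.isP ⟨x, hx⟩
  exact ⟨k, congrArg Subtype.val hk⟩

theorem φ_not : C.φ ∉ D.W := fun h => X.φ_ne (by simpa using D.φ_pow 1 (by simpa using h))

theorem n_pow_mem (j : ℕ) : X.D.n ^ j ∈ D.W := pow_mem D.n_mem j

/-- An element of `P` centralising `φ` lies in `⟨φ, n⟩`. -/
theorem P_phi {x : G} (hx : x ∈ D.P) (hc : Commute x C.φ) : ∃ i j : ℕ, x = C.φ ^ i * X.D.n ^ j := by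
  obtain ⟨i, j, hj, e⟩ := X.cent_phi hc
  have hjP : j ∈ D.P := by
    have := mul_mem (inv_mem (pow_mem D.φ_mem i)) hx
    rwa [e, inv_mul_cancel_left] at this
  have hjn := X.J_rgroup (D.isP.to_le (inf_le_left : D.P ⊓ X.D.J ≤ D.P)) inf_le_right ⟨D.n_P, X.D.n_mem⟩ ⟨hjP, hj⟩
  obtain ⟨k, hk⟩ := (isOfFinOrder_of_finite X.D.n).mem_powers_iff_mem_zpowers.mpr hjn
  simp only at hk
  exact ⟨i, k, by rw [e, hk]⟩

theorem W_phi {w : G} (hw : w ∈ D.W) (hc : Commute w C.φ) : w ∈ Subgroup.zpowers X.D.n := by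
  obtain ⟨i, j, e⟩ := D.P_phi (D.W_le hw) hc
  have h : C.φ ^ i ∈ D.W := by
    have := mul_mem hw (inv_mem (D.n_pow_mem j))
    rwa [e, mul_inv_cancel_right] at this
  rw [e, D.φ_pow i h, one_mul]
  exact Subgroup.pow_mem _ (Subgroup.mem_zpowers _) j

theorem card_P : Nat.card D.P = Nat.card D.W * r := by
  suffices h : Nat.card D.P = Nat.card (D.W × Subgroup.zpowers C.φ) by
    rw [h, Nat.card_prod, Nat.card_zpowers, X.φ_ord]
  refine (Nat.card_congr (Equiv.ofBijective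
    (fun q : D.W × Subgroup.zpowers C.φ =>
      (⟨q.1.1 * q.2.1, mul_mem (D.W_le q.1.2) (Subgroup.zpowers_le.mpr D.φ_mem q.2.2)⟩ : D.P)) ⟨?_, ?_⟩)).symm
  · rintro ⟨⟨w, hw⟩, ⟨a, ha⟩⟩ ⟨⟨v, hv⟩, ⟨b, hb⟩⟩ h
    have h' : w * a = v * b := congrArg Subtype.val h
    have hm : b * a⁻¹ ∈ D.W := by
      have : b * a⁻¹ = v⁻¹ * w := by
        rw [mul_inv_eq_iff_eq_mul, mul_assoc, h', inv_mul_cancel_left]
      rw [this]; exact mul_mem (inv_mem hv) hw
    obtain ⟨k, hk⟩ := (isOfFinOrder_of_finite C.φ).mem_powers_iff_mem_zpowers.mpr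
      (mul_mem hb (inv_mem ha))
    simp only at hk
    have hab : a = b := by
      rw [← hk] at hm
      have := D.φ_pow k hm
      rw [hk, mul_inv_eq_one] at this
      exact this.symm
    subst hab
    exact Prod.ext (Subtype.ext (mul_right_cancel h')) rfl
  · rintro ⟨x, hx⟩
    obtain ⟨w, hw, i, rfl⟩ := D.decomp x hx
    exact ⟨⟨⟨w, hw⟩, ⟨_, Subgroup.pow_mem _ (Subgroup.mem_zpowers _) i⟩⟩, rfl⟩

/-- The Sylow subgroup. -/
noncomputable def sylow : Sylow r G :=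
  haveI : Fact r.Prime := ⟨X.prime⟩
  D.isP.toSylow D.index

theorem coe_sylow : (D.sylow : Subgroup G) = D.P := rfl

theorem sylow_control {x g : G} (hx : x ∈ D.P) (hg : g * x * g⁻¹ ∈ D.P) :
    ∃ m ∈ Subgroup.normalizer ((Cfsg.centerThompsonAOf D.P : Subgroup G) : Set G), m * x * m⁻¹ = g * x * g⁻¹ := by
  haveI : Fact r.Prime := ⟨X.prime⟩
  have h := (Cfsg.Agent.S3081.result X.two D.sylow D.P ⟨le_rfl, fun _ _ _ hy => hy⟩
    (qd_free X.two X.hab)).1 {x} (by simpa [coe_sylow] using hx)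
  obtain ⟨m, hm, e⟩ := h.2 g (by simpa [coe_sylow] using hg)
  exact ⟨m, hm, (e x rfl).symm⟩

/-- A control of fusion pushing the commutators into `W` contradicts simplicity. -/
theorem finish (N : Subgroup G)
    (hc : ∀ x ∈ D.P, ∀ g : G, g * x * g⁻¹ ∈ D.P → ∃ n ∈ N, n * x * n⁻¹ = g * x * g⁻¹)
    (hM : ∀ x ∈ D.P, ∀ n ∈ N, ⁅x, n⁆ ∈ D.P → ⁅x, n⁆ ∈ D.W) : False := by
  haveI : Fact r.Prime := ⟨X.prime⟩
  haveI := X.B.simple
  have htop : commutator G = ⊤ := by
    rcases Subgroup.Normal.eq_bot_or_eq_top (H := commutator G) inferInstance with h | h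
    · exact absurd (⟨⟨fun a b => by
        have hab : ⁅a, b⁆ ∈ commutator G := Subgroup.commutator_mem_commutator (Subgroup.mem_top a) (Subgroup.mem_top b)
        rw [h, Subgroup.mem_bot] at hab
        exact commutatorElement_eq_one_iff_mul_comm.mp hab⟩⟩ : IsMulCommutative G) X.B.not_comm
    · exact h
  have h1 := Subgroup.commutator_inf_eq_focalSubgroup D.sylow
  rw [htop, top_inf_eq, coe_sylow] at h1
  have h2 := TransferApps.focalSubgroup_le_of_control D.P N D.W hc hM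
  rw [← h1] at h2
  exact D.φ_not (h2 D.φ_mem)

end PData

end CfsgLib.Walter
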