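import Cfsg.Agent.Lib.Walter.J1Local.Cent
import Cfsg.Agent.Lib.J1Unique.Iso

/-!
The subgroup `J` in case (J): the normaliser of its Sylow `r`-subgroup.
-/

set_option autoImplicit false
set_option linter.unusedSectionVars false
set_option linter.style.haveILetI false

namespace CfsgLib.Walter

open CfsgLib.PSL2 (fieldAut)
open scoped commutatorElement

universe u

local notation "PSL₂[" K "]" => Matrix.ProjectiveSpecialLinearGroup (Fin 2) K
local notation "K₁" => Multiplicative (ZMod 2) × alternatingGroup (Fin 5)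

/-- The facts about `J` that are used. -/
structure JData {G : Type u} [Group G] (C : Coord G) (r : ℕ) where
  J : Subgroup G
  phi : ∀ x ∈ J, Commute C.φ x
  t_mem : C.t ∈ J
  inf : Subgroup.zpowers C.φ ⊓ J = ⊥
  sup : Subgroup.zpowers C.φ ⊔ J = Subgroup.centralizer ({C.φ} : Set G)
  conj : ∀ v ∈ J, orderOf v = 2 → ∃ j ∈ J, j * v * j⁻¹ = C.t
  n : G
  n_mem : n ∈ J
  n_ord : orderOf n = r
  u : G
  u_mem : u ∈ J
  u_ord : orderOf u = 2
  u_n : u * n * u⁻¹ = n⁻¹
  p : ℕ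
  h : G
  rp : r = 11 ∧ p = 5 ∨ (r = 7 ∨ r = 19) ∧ p = 3
  h_mem : h ∈ J
  h_ord : orderOf h = p
  h_norm : ∃ a : ℕ, h * n * h⁻¹ = n ^ a
  h_n : ¬ Commute h n
  cent_n : ∀ x ∈ J, Commute x n → x ∈ Subgroup.zpowers n
  u_norm : ∀ c ∈ J, c * n * c⁻¹ ∈ Subgroup.zpowers n → c * u * c⁻¹ * u⁻¹ ∈ Subgroup.zpowers n

variable {G : Type u} [Group G] [Finite G]

/-- Arithmetic of `175560`. -/
theorem arith_j (r e c : ℕ) (hr : r = 7 ∨ r = 11 ∨ r = 19) (he : e ∣ r - 1) (h : r * c * e ∣ 175560)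
    (hn : 175560 / (r * c * e) % r = 1) (h3 : ¬ 3 ∣ c) (h5 : ¬ 5 ∣ c) (hodd : c % 2 = 1) (he1 : e ≠ 1) :
    (e = 10 ∧ r = 11 ∨ e = 6 ∧ (r = 7 ∨ r = 19)) ∧ (c = 1 ∨ c = 133 ∧ r = 11 ∨ c = 77 ∧ r = 19) := by
  have hc : r * c ∣ 175560 := (dvd_mul_right _ e).trans h
  rcases hr with rfl | rfl | rfl
  · have hc' : c ∈ Nat.divisors 25080 :=
      Nat.mem_divisors.mpr ⟨Nat.dvd_of_mul_dvd_mul_left (by norm_num : 0 < 7) (by simpa using hc), by norm_num⟩
    have he' : e ∈ Nat.divisors 6 := Nat.mem_divisors.mpr ⟨he, by norm_num⟩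
    have key : ∀ c ∈ Nat.divisors 25080, ∀ e ∈ Nat.divisors 6, e ≠ 1 →
        7 * c * e ∣ 175560 → 175560 / (7 * c * e) % 7 = 1 → ¬ 3 ∣ c → ¬ 5 ∣ c → c % 2 = 1 →
        e = 6 ∧ c = 1 := by decide +kernel
    obtain ⟨rfl, rfl⟩ := key c hc' e he' he1 h hn h3 h5 hodd
    exact ⟨Or.inr ⟨rfl, Or.inl rfl⟩, Or.inl rfl⟩
  · have hc' : c ∈ Nat.divisors 15960 :=
      Nat.mem_divisors.mpr ⟨Nat.dvd_of_mul_dvd_mul_left (by norm_num : 0 < 11) (by simpa using hc), by norm_num⟩
    have he' : e ∈ Nat.divisors 10 := Nat.mem_divisors.mpr ⟨he, by norm_num⟩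
    have key : ∀ c ∈ Nat.divisors 15960, ∀ e ∈ Nat.divisors 10,
        11 * c * e ∣ 175560 → 175560 / (11 * c * e) % 11 = 1 → ¬ 3 ∣ c → ¬ 5 ∣ c → c % 2 = 1 →
        (e = 10 ∧ 11 = 11 ∨ e = 6 ∧ (11 = 7 ∨ 11 = 19)) ∧ (c = 1 ∨ c = 133 ∧ 11 = 11 ∨ c = 77 ∧ 11 = 19) := by decide +kernel
    exact key c hc' e he' h hn h3 h5 hodd
  · have hc' : c ∈ Nat.divisors 9240 :=
      Nat.mem_divisors.mpr ⟨Nat.dvd_of_mul_dvd_mul_left (by norm_num : 0 < 19) (by simpa using hc), by norm_num⟩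
    have he' : e ∈ Nat.divisors 18 := Nat.mem_divisors.mpr ⟨he, by norm_num⟩
    have key : ∀ c ∈ Nat.divisors 9240, ∀ e ∈ Nat.divisors 18,
        19 * c * e ∣ 175560 → 175560 / (19 * c * e) % 19 = 1 → ¬ 3 ∣ c → ¬ 5 ∣ c → c % 2 = 1 →
        (e = 10 ∧ 19 = 11 ∨ e = 6 ∧ (19 = 7 ∨ 19 = 19)) ∧ (c = 1 ∨ c = 133 ∧ 19 = 11 ∨ c = 77 ∧ 19 = 19) := by decide +kernel
    exact key c hc' e he' h hn h3 h5 hodd

/-- `C_J(t) ≅ 2 × A₅`. -/
theorem cent_iso {C : Coord G} {r : ℕ} (hr : r = 7 ∨ r = 11 ∨ r = 19) (hord : orderOf C.σ = r)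
    (hq : Fintype.card C.F = 5 ^ r) {J : Subgroup G} (hJs : IsSimpleGroup J) (hJc : Nat.card J = 175560)
    (hφJ : ∀ x ∈ J, Commute C.φ x) (htJ : C.t ∈ J)
    (hsup : Subgroup.zpowers C.φ ⊔ J = Subgroup.centralizer ({C.φ} : Set G))
    (hinf : Subgroup.zpowers C.φ ⊓ J = ⊥) :
    Nonempty (Subgroup.centralizer ({(⟨C.t, htJ⟩ : J)} : Set J) ≃* K₁) := by
  classical
  have hr0 : r ≠ 0 := by omega
  haveI := Fintype.ofFinite (fixField C.σ)
  have h5 : Fintype.card (fixField C.σ) = 5 := by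
    have h := card_fixField C.σ
    rw [hord, hq, Nat.card_eq_fintype_card] at h
    exact Nat.pow_left_injective hr0 h
  have hchar : (5 : fixField C.σ) = 0 := by
    have h := FiniteField.cast_card_eq_zero (fixField C.σ)
    rwa [h5] at h
  have h2 : (2 : fixField C.σ) ≠ 0 := fun e => by
    have : (1 : fixField C.σ) = 0 := by linear_combination hchar - 2 * e
    exact one_ne_zero this
  obtain ⟨H, ⟨e⟩⟩ := PSL2Platonic.exists_A5 h2 (hchar ▸ IsSquare.zero)
  have hA5 : Nat.card (alternatingGroup (Fin 5)) = 60 := by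
    rw [Nat.card_eq_fintype_card]; decide +kernel
  have hcard : Nat.card PSL₂[fixField C.σ] = 60 := by
    have h := CfsgLib.MinNonCA.card_PSL_two (F := fixField C.σ) (by rw [h5]; decide)
    rw [h5] at h
    omega
  have hH : H = ⊤ := Subgroup.eq_top_of_le_card _ (by rw [hcard, Nat.card_congr e.toEquiv, hA5])
  let e' : PSL₂[fixField C.σ] ≃* alternatingGroup (Fin 5) :=
    (Subgroup.topEquiv.symm.trans (MulEquiv.subgroupCongr hH.symm)).trans e
  let κ : alternatingGroup (Fin 5) →* G :=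
    C.ι.comp ((subMap (fixField C.σ).subtype).comp e'.symm.toMonoidHom)
  have hκi : Function.Injective κ := C.ι_inj.comp ((subMap_injective _).comp e'.symm.injective)
  have hκt : ∀ a, Commute C.t (κ a) := fun a => C.t_ι _
  have hκφ : ∀ a, Commute C.φ (κ a) := fun a =>
    C.φ_comm (fieldAut_subMap _ C.σ (fun b => mem_fixField.mp b.2) _)
  -- the perfect image lies in `J`
  have hκJ : ∀ a, κ a ∈ J := by
    have hle : κ.range ≤ Subgroup.centralizer ({C.φ} : Set G) := by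
      rintro _ ⟨a, rfl⟩
      exact Subgroup.mem_centralizer_singleton_iff.mpr (hκφ a).symm.eq
    have hcomm : ∀ x ∈ Subgroup.centralizer ({C.φ} : Set G), ∀ y ∈ Subgroup.centralizer ({C.φ} : Set G),
        x * y * x⁻¹ * y⁻¹ ∈ J := by
      rw [← hsup]
      have hn : Subgroup.zpowers C.φ ≤ Subgroup.normalizer (J : Set G) :=
        Subgroup.zpowers_le.mpr (Subgroup.centralizer_le_normalizer _ fun x hx => (hφJ x hx).eq.symm)
      intro x hx y hy
      rw [← SetLike.mem_coe, Subgroup.coe_mul_of_left_le_normalizer_right _ _ hn] at hx hy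
      obtain ⟨_, ⟨i, rfl⟩, a, ha, rfl⟩ := hx
      obtain ⟨_, ⟨k, rfl⟩, b, hb, rfl⟩ := hy
      have h1 : Commute (C.φ ^ i) a := (hφJ a ha).zpow_left i
      have h2 : Commute (C.φ ^ k) b := (hφJ b hb).zpow_left k
      have h3 : Commute (C.φ ^ k) a := (hφJ a ha).zpow_left k
      have h4 : Commute (C.φ ^ i) b := (hφJ b hb).zpow_left i
      have e1 : C.φ ^ i * a * (C.φ ^ k * b) * (C.φ ^ i * a)⁻¹ * (C.φ ^ k * b)⁻¹ = a * b * a⁻¹ * b⁻¹ := by
        calc C.φ ^ i * a * (C.φ ^ k * b) * (C.φ ^ i * a)⁻¹ * (C.φ ^ k * b)⁻¹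
            = C.φ ^ i * (a * C.φ ^ k) * b * a⁻¹ * (C.φ ^ i)⁻¹ * b⁻¹ * (C.φ ^ k)⁻¹ := by group
          _ = C.φ ^ i * (C.φ ^ k * a) * b * a⁻¹ * ((C.φ ^ i)⁻¹ * b⁻¹) * (C.φ ^ k)⁻¹ := by rw [h3.eq]; group
          _ = C.φ ^ i * C.φ ^ k * (a * b * a⁻¹ * b⁻¹) * (C.φ ^ i)⁻¹ * (C.φ ^ k)⁻¹ := by
            rw [h4.inv_inv.eq]; group
          _ = _ := by
            have hc : Commute (C.φ ^ i * C.φ ^ k) (a * b * a⁻¹ * b⁻¹) :=
              (((h1.mul_right h4).mul_right h1.inv_right).mul_right h4.inv_right).mul_left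
                (((h3.mul_right h2).mul_right h3.inv_right).mul_right h2.inv_right)
            rw [hc.eq]; group
      simp only [e1]
      exact mul_mem (mul_mem (mul_mem ha hb) (inv_mem ha)) (inv_mem hb)
    intro a
    have ha : a ∈ (J.comap κ) := by
      have : commutator (alternatingGroup (Fin 5)) ≤ J.comap κ := by
        rw [commutator_def, Subgroup.commutator_le]
        intro x _ y _
        show κ ⁅x, y⁆ ∈ J
        rw [commutatorElement_def, map_mul, map_mul, map_mul, map_inv, map_inv]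
        exact hcomm _ (hle ⟨x, rfl⟩) _ (hle ⟨y, rfl⟩)
      rw [commutator_alternatingGroup_eq_top (by simp)] at this
      exact this (Subgroup.mem_top a)
    exact ha
  let κJ : alternatingGroup (Fin 5) →* J := κ.codRestrict J hκJ
  set t' : J := ⟨C.t, htJ⟩
  have ht' : t' * t' = 1 := Subtype.ext C.tt
  let tt : Multiplicative (ZMod 2) →* J :=
    { toFun := fun a => t' ^ (Multiplicative.toAdd a).val
      map_one' := by simp
      map_mul' := fun a b => by
        show t' ^ (Multiplicative.toAdd (a * b)).val = _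
        rw [toAdd_mul, ← pow_add, ZMod.val_add]
        exact (pow_eq_pow_mod _ (by rw [pow_two, ht'])).symm }
  let f : K₁ →* J := MonoidHom.noncommCoprod tt κJ fun a x =>
    (show Commute t' (κJ x) from Subtype.ext (hκt x).eq).pow_left _
  have hfval : ∀ a x, ((f (a, x) : J) : G) = C.t ^ (Multiplicative.toAdd a).val * κ x := fun a x => rfl
  have hf : Function.Injective f := by
    refine (injective_iff_map_eq_one f).mpr fun ⟨a, x⟩ he => ?_
    have he' : C.t ^ (Multiplicative.toAdd a).val * κ x * C.φ ^ 0 = 1 := by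
      rw [pow_zero, mul_one, ← hfval, he]; rfl
    obtain ⟨h0, h1, -⟩ := C.unique (i := ⟨(Multiplicative.toAdd a).val, ZMod.val_lt _⟩) he'
    have ha : Multiplicative.toAdd a = 0 := (ZMod.val_eq_zero _).mp (congrArg Fin.val h0)
    exact Prod.ext (Multiplicative.toAdd.injective ha) (hκi (by
      show C.ι _ = κ 1
      rw [map_one]; exact (congrArg C.ι h1).trans (map_one _)))
  have hrange : f.range = Subgroup.centralizer ({t'} : Set J) := by
    refine le_antisymm ?_ fun g hg => ?_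
    · rintro _ ⟨⟨a, x⟩, rfl⟩
      refine Subgroup.mem_centralizer_singleton_iff.mpr (Subtype.ext ?_)
      rw [Subgroup.coe_mul, Subgroup.coe_mul, hfval]
      exact ((Commute.refl C.t).pow_right _ |>.mul_right (hκt x)).eq.symm
    · have hgt : Commute g.1 C.t := congrArg Subtype.val (Subgroup.mem_centralizer_singleton_iff.mp hg)
      obtain ⟨i, x, j, hg'⟩ := C.cent g.1 hgt
      -- `x` is fixed by `σ`
      have hgφ : Commute C.φ g.1 := hφJ _ g.2
      have hxφ : Commute C.φ (C.ι x) := by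
        have h1 : C.ι x = (C.t ^ (i : ℕ))⁻¹ * g.1 * (C.φ ^ j)⁻¹ := by rw [hg']; group
        rw [h1]
        exact (((C.t_φ.symm.pow_right _).inv_right).mul_right hgφ).mul_right
          ((Commute.refl C.φ).pow_right j).inv_right
      have hx : fieldAut C.σ x = x := C.ι_inj (by rw [← C.conj, hxφ.eq, mul_inv_cancel_right])
      obtain ⟨y, hy⟩ := fixed_range C.two_ne C.odd_f hx
      have hκy : κ (e' y) = C.ι x := by
        show C.ι (subMap _ (e'.symm (e' y))) = _
        rw [e'.symm_apply_apply, hy]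
      have hj : C.φ ^ j = 1 := by
        refine Subgroup.disjoint_def.mp (disjoint_iff.mpr hinf) (Subgroup.pow_mem _ (Subgroup.mem_zpowers _) j) ?_
        rw [show C.φ ^ j = (C.t ^ (i : ℕ) * C.ι x)⁻¹ * g.1 by rw [hg']; group, ← hκy]
        exact mul_mem (inv_mem (mul_mem (pow_mem htJ _) (hκJ _))) g.2
      refine ⟨(Multiplicative.ofAdd ((i : ℕ) : ZMod 2), e' y), Subtype.ext ?_⟩
      rw [hfval, hκy, hg', hj, mul_one, toAdd_ofAdd, ZMod.val_natCast, Nat.mod_eq_of_lt i.2]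
  exact ⟨((MonoidHom.ofInjective hf).trans (MulEquiv.subgroupCongr hrange)).symm⟩

theorem exists_jdata {C : Coord G} {r : ℕ} (hJ : CaseJ C r) : Nonempty (JData C r) := by
  classical
  obtain ⟨hr, hord, hq, J, ⟨hJs, hJc⟩, hφJ, htJ, hinf, hsup⟩ := hJ
  haveI : IsSimpleGroup J := hJs
  have hrp : r.Prime := by rcases hr with rfl | rfl | rfl <;> norm_num
  haveI : Fact r.Prime := ⟨hrp⟩
  haveI : Fact (Nat.Prime 2) := ⟨Nat.prime_two⟩
  haveI := Fintype.ofFinite J
  obtain ⟨e⟩ := cent_iso hr hord hq hJs hJc hφJ htJ hsup hinf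
  set t' : J := ⟨C.t, htJ⟩
  have ht' : orderOf t' = 2 := by rw [Subgroup.orderOf_mk, C.t_ord]
  have h8 : ∀ P : Sylow 2 J, Nat.card (P : Subgroup J) = 8 := fun P => by
    rw [P.card_eq_multiplicity, hJc]
    have : Nat.factorization 175560 2 = 3 := by decide +kernel
    rw [this]
    rfl
  obtain ⟨ψ, hψ⟩ := JankoOne.exists_hyp t' (J1Unique.twoCentral_of_card ht' h8 e) e
  have hpull : ∀ s : J, s * s = 1 → s ≠ 1 → ∃ g : J, g * t' * g⁻¹ = s := fun s hs hs1 => by
    obtain ⟨g, hg, -⟩ := hψ.pull hs hs1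
    exact ⟨g, hg⟩
  have hinv : ∀ v : J, orderOf v = 2 → v * v = 1 ∧ v ≠ 1 := fun v hv =>
    ⟨by rw [← pow_two, ← hv, pow_orderOf_eq_one], fun e => by simp [e] at hv⟩
  -- the element of order `r`
  obtain ⟨n, hn⟩ := exists_prime_orderOf_dvd_card' (G := J) r (by rw [hJc]; rcases hr with rfl | rfl | rfl <;> norm_num)
  have hn1 : n ≠ 1 := fun e => hrp.one_lt.ne (by rw [← hn, e, orderOf_one])
  have hn30 : ∀ v : J, v * v = 1 → v ≠ 1 → ¬ n * v = v * n := by
    intro v hv hv1 hc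
    obtain ⟨q, w, cf⟩ := hψ.exists_cfg (by rw [hn]; exact hrp.odd_of_ne_two (by omega)) hn1 hv hv1 hc
    have h1 := cf.ord
    rw [hn] at h1
    rcases cf.pr with e | e <;> omega
  set Cn := Subgroup.centralizer ({n} : Set J) with hCn
  set N := Subgroup.normalizer ((Subgroup.zpowers n : Subgroup J) : Set J) with hNdef
  have hnC : n ∈ Cn := Subgroup.mem_centralizer_singleton_iff.mpr rfl
  have hzC : Subgroup.zpowers n ≤ Cn := Subgroup.zpowers_le.mpr hnC
  have hCN : Cn ≤ N := by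
    refine le_trans ?_ (Subgroup.centralizer_le_normalizer _)
    intro x hx
    rintro _ ⟨i, rfl⟩
    exact ((show Commute n x from (Subgroup.mem_centralizer_singleton_iff.mp hx).symm).zpow_left i).eq
  -- the Sylow subgroup has order `r`
  obtain ⟨P, hP⟩ := (IsPGroup.of_card (n := 1) (by rw [Nat.card_zpowers, hn, pow_one]) :
    IsPGroup r (Subgroup.zpowers n)).exists_le_sylow
  have hPeq : Subgroup.zpowers n = (P : Subgroup J) := Subgroup.eq_of_le_of_card_ge hP (by
    rw [P.card_eq_multiplicity, hJc, Nat.card_zpowers, hn]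
    have : Nat.factorization 175560 r = 1 := by rcases hr with rfl | rfl | rfl <;> decide +kernel
    rw [this, pow_one])
  -- the automiser
  haveI hCnor : (Cn.subgroupOf N).Normal := ⟨fun x hx g => by
    refine Subgroup.mem_centralizer_singleton_iff.mpr ?_
    have hgn : (g : J)⁻¹ * n * g ∈ Subgroup.zpowers n :=
      (Subgroup.mem_normalizer_iff''.mp g.2 n).mp (Subgroup.mem_zpowers n)
    obtain ⟨i, hi⟩ := hgn
    simp only at hi
    have hxn : Commute (x : J) ((g : J)⁻¹ * n * g) := by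
      rw [← hi]
      exact (show Commute (x : J) n from Subgroup.mem_centralizer_singleton_iff.mp hx).zpow_right i
    show (g : J) * x * (g : J)⁻¹ * n = n * ((g : J) * x * (g : J)⁻¹)
    calc (g : J) * x * (g : J)⁻¹ * n = g * (x * ((g : J)⁻¹ * n * g)) * (g : J)⁻¹ := by group
      _ = g * (((g : J)⁻¹ * n * g) * x) * (g : J)⁻¹ := by rw [hxn.eq]
      _ = _ := by group⟩
  let act : N →* MulAut (Subgroup.zpowers n) := Subgroup.normalizerMonoidHom (Subgroup.zpowers n)
  have hker : act.ker ≤ Cn.subgroupOf N := fun x hx => by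
    refine Subgroup.mem_centralizer_singleton_iff.mpr ?_
    exact mul_inv_eq_iff_eq_mul.mp
      (congrArg Subtype.val (DFunLike.congr_fun (MonoidHom.mem_ker.mp hx) ⟨n, Subgroup.mem_zpowers n⟩) :)
  have hker' : Cn.subgroupOf N ≤ act.ker := fun x hx => by
    refine MonoidHom.mem_ker.mpr (MulEquiv.ext ?_)
    rintro ⟨_, i, rfl⟩
    refine Subtype.ext ?_
    show (x : J) * n ^ i * (x : J)⁻¹ = n ^ i
    exact mul_inv_eq_iff_eq_mul.mpr
      ((show Commute (x : J) n from Subgroup.mem_centralizer_singleton_iff.mp hx).zpow_right i).eq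
  have hkeq : act.ker = Cn.subgroupOf N := le_antisymm hker hker'
  set e₀ := (Cn.subgroupOf N).index with he₀
  have hcyc : IsCyclic (Subgroup.zpowers n) := inferInstance
  have he : e₀ ∣ r - 1 := by
    rw [he₀, ← hkeq, Subgroup.index_ker, ← Nat.totient_prime hrp]
    conv_rhs => rw [← hn, ← Nat.card_zpowers]
    exact (Subgroup.card_subgroup_dvd_card _).trans (dvd_of_eq (IsCyclic.card_mulAut _))
  obtain ⟨c, hc⟩ : r ∣ Nat.card Cn := by
    rw [← hn, ← Nat.card_zpowers]; exact Subgroup.card_dvd_of_le hzC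
  have hNc : Nat.card N = r * c * e₀ := by
    rw [← (Cn.subgroupOf N).card_mul_index, Nat.card_congr (Subgroup.subgroupOfEquivOfLe hCN).toEquiv, hc]
  have hNdvd : r * c * e₀ ∣ 175560 := hNc ▸ hJc ▸ Subgroup.card_subgroup_dvd_card N
  have hsyl : 175560 / (r * c * e₀) % r = 1 := by
    have h := card_sylow_modEq_one r J
    rw [P.card_eq_index_normalizer] at h
    change (Subgroup.normalizer ((P : Subgroup J) : Set J)).index ≡ 1 [MOD r] at h
    rw [← hPeq, ← hNdef, Nat.ModEq, Nat.one_mod_eq_one.mpr hrp.one_lt.ne'] at h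
    rw [← hNc, ← hJc, ← N.index_mul_card, Nat.mul_div_cancel _ Nat.card_pos]
    exact h
  have hCdiv : ∀ q, (q = 2 ∨ q = 3 ∨ q = 5) → ¬ q ∣ c := by
    intro q hq hd
    haveI : Fact q.Prime := ⟨by rcases hq with rfl | rfl | rfl <;> norm_num⟩
    obtain ⟨y, hy⟩ := exists_prime_orderOf_dvd_card' (G := Cn) q (hc ▸ dvd_mul_of_dvd_right hd r)
    rw [← Subgroup.orderOf_coe] at hy
    have hyn := Subgroup.mem_centralizer_singleton_iff.mp y.2
    rcases hq with rfl | hq'
    · obtain ⟨h1, h2⟩ := hinv _ hy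
      exact hn30 _ h1 h2 hyn.symm
    · obtain ⟨s', u', cf⟩ := hψ.cfg_of_prime hq' hy
      have hnO : n ∈ JankoOne.Oc (y : J) :=
        (hψ.mem_Oc cf).mpr ⟨hyn.symm, by rw [hn]; exact hrp.odd_of_ne_two (by omega)⟩
      exact hψ.Oc_split cf hnO (by rw [hn]; omega) fun v hv hv1 hc' => hn30 v hv hv1 hc'
  have hodd : c % 2 = 1 := Nat.two_dvd_ne_zero.mp (hCdiv 2 (Or.inl rfl))
  -- the automiser is non-trivial
  have he1 : e₀ ≠ 1 := by
    intro h1
    have hNC : N ≤ Cn := fun x hx => by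
      have := (Subgroup.index_eq_one.mp h1).ge (Subgroup.mem_top (⟨x, hx⟩ : N))
      exact this
    have hnc : Subgroup.normalizer ((P : Subgroup J) : Set J) ≤ Subgroup.centralizer ((P : Subgroup J) : Set J) := by
      rw [← hPeq, ← hNdef]
      intro x hx
      rintro _ ⟨i, rfl⟩
      exact ((show Commute n x from (Subgroup.mem_centralizer_singleton_iff.mp (hNC hx)).symm).zpow_left i).eq
    rcases Subgroup.Normal.eq_bot_or_eq_top (H := (MonoidHom.transferSylow P hnc).ker) inferInstance with hb | hb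
    · have h3 := (MonoidHom.ker_transferSylow_isComplement' P hnc).card_mul
      rw [hb, Subgroup.card_bot, one_mul, ← hPeq, Nat.card_zpowers, hn, hJc] at h3
      rcases hr with rfl | rfl | rfl <;> omega
    · refine MonoidHom.not_dvd_card_ker_transferSylow P hnc ?_
      rw [hb, Subgroup.card_top, hJc]
      rcases hr with rfl | rfl | rfl <;> norm_num
  obtain ⟨he2, hc3⟩ := arith_j r e₀ c hr he hNdvd hsyl (hCdiv 3 (Or.inr (Or.inl rfl)))
    (hCdiv 5 (Or.inr (Or.inr rfl))) hodd he1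
  -- the centraliser has order `r`
  have hc1 : c = 1 := by
    by_contra hne
    haveI : Fact (Nat.Prime 7) := ⟨by norm_num⟩
    obtain ⟨S⟩ : Nonempty (Sylow 7 Cn) := inferInstance
    have hCcard : Nat.card Cn = 1463 ∧ e₀ * (Nat.card J / (1463 * e₀)) = 120 ∧
        Nat.card J / (1463 * e₀) ∈ [12, 20] := by
      rcases hc3.resolve_left hne with ⟨rfl, rfl⟩ | ⟨rfl, rfl⟩ <;>
        rcases he2 with ⟨h1, h2⟩ | ⟨h1, h2⟩ <;> first | omega | (rw [hc, h1, hJc]; norm_num)
    have hS1 : Nat.card (Sylow 7 Cn) = 1 := by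
      have h1 := card_sylow_modEq_one 7 Cn
      have h2 := S.card_dvd_index
      have h3 := (S : Subgroup Cn).card_mul_index
      have h4 : Nat.card (Sylow 7 Cn) ∣ 1463 := hCcard.1 ▸ h2.trans (Subgroup.index_dvd_card _)
      have hmem : Nat.card (Sylow 7 Cn) ∈ Nat.divisors 1463 := Nat.mem_divisors.mpr ⟨h4, by norm_num⟩
      rw [Nat.ModEq] at h1
      revert h1 hmem
      generalize Nat.card (Sylow 7 Cn) = m
      intro h1 hmem
      have : ∀ m ∈ Nat.divisors 1463, m % 7 = 1 → m = 1 := by decide +kernel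
      exact this m hmem h1
    haveI : Subsingleton (Sylow 7 Cn) := (Nat.card_eq_one_iff_unique.mp hS1).1
    haveI := S.normal_of_subsingleton
    haveI : (S : Subgroup Cn).Characteristic := S.characteristic_of_normal (S.normal_of_subsingleton)
    set Q := (S : Subgroup Cn).map Cn.subtype
    have hNQ : N ≤ Subgroup.normalizer (Q : Set J) := by
      refine (CfsgLib.le_normalizer_map_characteristic ?_ (S : Subgroup Cn)).1
      intro g hg
      refine Subgroup.mem_normalizer_fintype fun x hx => ?_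
      exact hCnor.conj_mem ⟨x, hCN hx⟩ hx ⟨g, hg⟩
    have hQ7 : Nat.card Q = 7 := by
      rw [Subgroup.card_map_of_injective Cn.subtype_injective, S.card_eq_multiplicity, hCcard.1]
      have : Nat.factorization 1463 7 = 1 := by decide +kernel
      rw [this, pow_one]
    have hQmax : (Nat.card J).factorization 7 = 1 := by rw [hJc]; decide +kernel
    let T : Sylow 7 J := Sylow.ofCard Q (by rw [hQ7, hQmax, pow_one])
    have hTmod := card_sylow_modEq_one 7 J
    rw [T.card_eq_index_normalizer, Nat.ModEq] at hTmod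
    have hTdvd : (Subgroup.normalizer ((T : Subgroup J) : Set J)).index ∣ Nat.card J / (1463 * e₀) := by
      show (Subgroup.normalizer (Q : Set J)).index ∣ _
      refine (Subgroup.index_dvd_of_le hNQ).trans (dvd_of_eq ?_)
      have : N.index * (1463 * e₀) = Nat.card J := by
        rw [← hCcard.1, hc, ← hNc, Subgroup.index_mul_card]
      rw [← this, Nat.mul_div_cancel]
      exact Nat.mul_pos (by norm_num) (Nat.pos_of_ne_zero fun h0 => by rcases he2 with ⟨h1, -⟩ | ⟨h1, -⟩ <;> omega)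
    have hidx : (Subgroup.normalizer ((T : Subgroup J) : Set J)).index = 1 := by
      have key : ∀ k ∈ [12, 20], ∀ d ∈ Nat.divisors k, d % 7 = 1 → d = 1 := by decide +kernel
      refine key _ hCcard.2.2 _ (Nat.mem_divisors.mpr ⟨hTdvd, ?_⟩) hTmod
      intro h0
      rw [h0] at hCcard
      exact absurd hCcard.2.2 (by decide)
    haveI : (T : Subgroup J).Normal :=
      Subgroup.normalizer_eq_top_iff.mp (Subgroup.index_eq_one.mp hidx)
    rcases Subgroup.Normal.eq_bot_or_eq_top (H := (T : Subgroup J)) inferInstance with h | h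
    · have := hQ7
      rw [show Q = (T : Subgroup J) from rfl, h, Subgroup.card_bot] at this
      omega
    · have := hQ7
      rw [show Q = (T : Subgroup J) from rfl, h, Subgroup.card_top, hJc] at this
      omega
  subst hc1
  rw [mul_one] at hc hNc
  have hCeq : Cn = Subgroup.zpowers n :=
    (Subgroup.eq_of_le_of_card_ge hzC (by rw [hc, Nat.card_zpowers, hn])).symm
  have hNp : ∀ q : ℕ, q.Prime → q ∣ e₀ → q ≠ r → ∃ y ∈ N, orderOf y = q ∧ ¬ Commute y n := by
    intro q hq hd hqr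
    haveI : Fact q.Prime := ⟨hq⟩
    obtain ⟨⟨y, hyN⟩, hy⟩ := exists_prime_orderOf_dvd_card' (G := N) q (hNc ▸ dvd_mul_of_dvd_right hd r)
    rw [Subgroup.orderOf_mk] at hy
    refine ⟨y, hyN, hy, fun hyc => hqr ?_⟩
    have hm : y ∈ Cn := Subgroup.mem_centralizer_singleton_iff.mpr hyc
    have h2 := Subgroup.orderOf_dvd_natCard Cn hm
    rw [hc, hy] at h2
    exact (Nat.prime_dvd_prime_iff_eq hq hrp).mp h2
  have hpow : ∀ y ∈ N, ∃ a : ℕ, y * n * y⁻¹ = n ^ a := fun y hy => by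
    obtain ⟨a, ha⟩ := (isOfFinOrder_of_finite n).mem_powers_iff_mem_zpowers.mpr
      ((Subgroup.mem_normalizer_iff.mp hy n).mp (Subgroup.mem_zpowers n))
    exact ⟨a, ha.symm⟩
  obtain ⟨p, hp, hpe, hrp'⟩ : ∃ p, p.Prime ∧ p ∣ e₀ ∧ (r = 11 ∧ p = 5 ∨ (r = 7 ∨ r = 19) ∧ p = 3) := by
    rcases he2 with ⟨h1, h2⟩ | ⟨h1, h2⟩
    · exact ⟨5, by norm_num, by omega, Or.inl ⟨h2, rfl⟩⟩
    · exact ⟨3, by norm_num, by omega, Or.inr ⟨h2, rfl⟩⟩
  obtain ⟨h, hhN, hho, hhn⟩ := hNp p hp hpe (by omega)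
  obtain ⟨u, huN, huo, hun⟩ := hNp 2 Nat.prime_two (by rcases he2 with ⟨h1, -⟩ | ⟨h1, -⟩ <;> omega) (by omega)
  have hun' : u * n * u⁻¹ = n⁻¹ := by
    obtain ⟨a, ha⟩ := hpow u huN
    have h1 : (n ^ a) ^ a = n := by
      rw [← ha, conj_pow, ← ha]
      calc u * (u * n * u⁻¹) * u⁻¹ = (u * u) * n * (u * u)⁻¹ := by group
        _ = n := by rw [(hinv u huo).1]; group
    have hne : n ^ a ≠ n := fun h' => hun (mul_inv_eq_iff_eq_mul.mp (ha.trans h'))
    rw [ha]
    have h2 : (a : ZMod r) * a = 1 := by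
      rw [← pow_mul] at h1
      have h1' : n ^ (a * a) = n ^ 1 := by rw [h1, pow_one]
      rw [pow_eq_pow_iff_modEq, hn, ← ZMod.natCast_eq_natCast_iff] at h1'
      simpa using h1'
    rcases mul_self_eq_one_iff.mp h2 with h3 | h3
    · refine absurd ?_ hne
      conv_rhs => rw [← pow_one n]
      rw [pow_eq_pow_iff_modEq, hn, ← ZMod.natCast_eq_natCast_iff, h3, Nat.cast_one]
    · refine eq_inv_of_mul_eq_one_left ?_
      rw [← pow_succ, ← orderOf_dvd_iff_pow_eq_one, hn, ← ZMod.natCast_eq_zero_iff]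
      push_cast
      rw [h3]
      ring
  have co : ∀ {a b : J}, Commute (a : G) b → Commute a b := fun h => Subtype.ext h
  refine ⟨⟨J, hφJ, htJ, hinf, hsup, ?_, n.1, n.2, by rw [Subgroup.orderOf_coe, hn], u.1, u.2,
    by rw [Subgroup.orderOf_coe, huo], congrArg Subtype.val hun', p, h.1, hrp', h.2,
    by rw [Subgroup.orderOf_coe, hho], ?_, fun hc => hhn (co hc), ?_, ?_⟩⟩
  · intro v hv hv2
    obtain ⟨g, hg⟩ := hpull ⟨v, hv⟩ (hinv ⟨v, hv⟩ (by rw [Subgroup.orderOf_mk, hv2])).1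
      (hinv ⟨v, hv⟩ (by rw [Subgroup.orderOf_mk, hv2])).2
    refine ⟨(g : G)⁻¹, inv_mem g.2, ?_⟩
    have h' : (g : G) * C.t * (g : G)⁻¹ = v := congrArg Subtype.val hg
    rw [← h']; group
  · obtain ⟨a, ha⟩ := hpow h hhN
    exact ⟨a, by have := congrArg Subtype.val ha; simpa using this⟩
  · intro x hx hxn
    have hm : (⟨x, hx⟩ : J) ∈ Cn := Subgroup.mem_centralizer_singleton_iff.mpr (Subtype.ext hxn.eq)
    rw [hCeq] at hm
    obtain ⟨i, hi⟩ := hm
    exact ⟨i, by have := congrArg Subtype.val hi; simpa using this⟩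
  · intro c hc hcn
    obtain ⟨a, ha⟩ := (isOfFinOrder_of_finite n.1).mem_powers_iff_mem_zpowers.mpr hcn
    simp only at ha
    have hcN : (⟨c, hc⟩ : J) * n * (⟨c, hc⟩ : J)⁻¹ = n ^ a := Subtype.ext (by simpa using ha.symm)
    set c' : J := ⟨c, hc⟩
    have hcm : c' * u * c'⁻¹ * u⁻¹ ∈ Cn := by
      refine Subgroup.mem_centralizer_singleton_iff.mpr (mul_inv_eq_iff_eq_mul.mp ?_)
      have key : ∀ x y : J, ∀ i : ℕ, x * n * x⁻¹ = y → x * n ^ i * x⁻¹ = y ^ i := fun x y i h => by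
        rw [← h, conj_pow]
      calc c' * u * c'⁻¹ * u⁻¹ * n * (c' * u * c'⁻¹ * u⁻¹)⁻¹
          = c' * u * (c'⁻¹ * (u⁻¹ * n * u) * c') * u⁻¹ * c'⁻¹ := by group
        _ = c' * u * (c'⁻¹ * n * c')⁻¹ * u⁻¹ * c'⁻¹ := by
          rw [show u⁻¹ * n * u = n⁻¹ by
            rw [show u⁻¹ = u from inv_eq_of_mul_eq_one_right (hinv u huo).1]
            calc u * n * u = u * n * u⁻¹ := by
                  rw [show u⁻¹ = u from inv_eq_of_mul_eq_one_right (hinv u huo).1]
              _ = n⁻¹ := hun']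
          group
        _ = n := by
          obtain ⟨b, hb⟩ : ∃ b : ℕ, c'⁻¹ * n * c' = n ^ b := by
            have hc'N : c' ∈ N := by
              refine Subgroup.mem_normalizer_fintype ?_
              rintro _ ⟨i, rfl⟩
              show c' * n ^ i * c'⁻¹ ∈ Subgroup.zpowers n
              rw [← conj_zpow, hcN]
              exact Subgroup.zpow_mem _ (Subgroup.pow_mem _ (Subgroup.mem_zpowers n) _) i
            obtain ⟨b, hb⟩ := hpow c'⁻¹ (inv_mem hc'N)
            exact ⟨b, by rw [← hb]; group⟩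
          rw [hb, ← inv_pow, show c' * u * n⁻¹ ^ b * u⁻¹ * c'⁻¹ = c' * (u * n⁻¹ ^ b * u⁻¹) * c'⁻¹ by group,
            ← conj_pow, show u * n⁻¹ * u⁻¹ = n by rw [← conj_inv, hun', inv_inv], ← hb]
          group
    rw [hCeq] at hcm
    obtain ⟨i, hi⟩ := hcm
    exact ⟨i, by have := congrArg Subtype.val hi; simpa using this⟩

end CfsgLib.Walter
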