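import Cfsg.Agent.Lib.Walter.J1Local.Common

/-!
Case (J) with `|W| > r²`: `W = J(P)` and `u` is central in `N(W)/C(W)`.
-/

set_option autoImplicit false
set_option linter.unusedSectionVars false

namespace CfsgLib.Walter

open scoped commutatorElement

universe u

variable {G : Type u} [Group G] [Finite G] {C : Coord G} {r : ℕ} {X : Ctx C r}

namespace PData

variable (D : PData X)
include D

theorem W_big_phi (h : r ^ 2 < Nat.card D.W) {i : ℕ} (hc : ∀ w ∈ D.W, Commute w (C.φ ^ i)) : C.φ ^ i = 1 := by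
  by_contra hne
  have hle : D.W ≤ Subgroup.zpowers X.D.n := fun w hw => D.W_phi hw (X.commute_phi_of_pow hne (hc w hw))
  have h1 := Subgroup.card_le_of_le hle
  rw [Nat.card_zpowers, X.D.n_ord] at h1
  have : r ≤ r ^ 2 := by rw [pow_two]; exact Nat.le_mul_of_pos_left r X.prime.pos
  omega

theorem large_centerThompson (h : r ^ 2 < Nat.card D.W) : Cfsg.centerThompsonAOf D.P = D.W := by
  classical
  set Wp := D.W.subgroupOf D.P with hWp
  have hWc : Nat.card Wp = Nat.card D.W := Nat.card_congr (Subgroup.subgroupOfEquivOfLe D.W_le).toEquiv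
  have hWidx : Wp.index = r := by
    have := Wp.card_mul_index
    rw [hWc, D.card_P] at this
    exact Nat.eq_of_mul_eq_mul_left Nat.card_pos this
  have hWab : IsMulCommutative Wp := ⟨⟨fun a b => Subtype.ext (Subtype.ext (D.comm _ a.2 _ b.2).eq)⟩⟩
  have hA : ∀ A : Subgroup D.P, IsMulCommutative A → ¬ A ≤ Wp → Nat.card A ≤ r ^ 2 := by
    intro A hAc hA
    obtain ⟨a, ha, haW⟩ := SetLike.not_le_iff_exists.mp hA
    obtain ⟨w, hw, i, e⟩ := D.decomp a.1 a.2
    have hne : C.φ ^ i ≠ 1 := fun h1 => haW (by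
      show a.1 ∈ D.W
      rw [e, h1, mul_one]; exact hw)
    have hle : (A ⊓ Wp).map D.P.subtype ≤ Subgroup.zpowers X.D.n := by
      rintro _ ⟨x, ⟨hxA, hxW⟩, rfl⟩
      refine D.W_phi hxW (X.commute_phi_of_pow hne ?_)
      have h1 : Commute x.1 a.1 :=
        congrArg (fun z : A => z.1.1) (hAc.is_comm.comm ⟨x, hxA⟩ ⟨a, ha⟩)
      rw [e] at h1
      have h2 := (D.comm _ hxW _ hw).inv_right.mul_right h1
      rwa [inv_mul_cancel_left] at h2
    have h1 := Subgroup.card_le_of_le hle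
    rw [Subgroup.card_map_of_injective D.P.subtype_injective, Nat.card_zpowers, X.D.n_ord] at h1
    have h2 : Nat.card A = (Wp.relIndex A) * Nat.card (A ⊓ Wp : Subgroup D.P) := by
      rw [← Subgroup.inf_relIndex_left A Wp, Subgroup.relIndex,
        ← Nat.card_congr (Subgroup.subgroupOfEquivOfLe (inf_le_left : A ⊓ Wp ≤ A)).toEquiv,
        Subgroup.index_mul_card]
    rw [h2, pow_two]
    refine Nat.mul_le_mul ?_ h1
    haveI : Wp.Normal := ⟨fun w hw g => D.norm g.1 g.2 w.1 hw⟩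
    have h3 := Subgroup.relIndex_dvd_index_of_normal Wp A
    rw [hWidx] at h3
    exact Nat.le_of_dvd X.prime.pos h3
  have hJ : Cfsg.thompsonSubgroupA D.P = Wp := by
    refine le_antisymm (sSup_le fun A hAm => ?_) (le_sSup ⟨hWab, fun B hB => ?_⟩)
    · obtain ⟨hAc, hmax⟩ := hAm
      by_contra hle
      have h1 := hA A hAc hle
      have h2 := hmax Wp hWab
      rw [hWc] at h2
      omega
    · by_cases hle : B ≤ Wp
      · exact Subgroup.card_le_of_le hle
      · have := hA B hB hle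
        rw [hWc]; omega
  show Cfsg.thompsonSubgroupAOf D.P ⊓ _ = D.W
  have hT : Cfsg.thompsonSubgroupAOf D.P = D.W := by
    show (Cfsg.thompsonSubgroupA D.P).map D.P.subtype = D.W
    rw [hJ, hWp, Subgroup.map_subgroupOf_eq_of_le D.W_le]
  rw [hT, inf_eq_left]
  exact fun w hw v hv => (D.comm v hv w hw).eq

theorem large_false (h : r ^ 2 < Nat.card D.W) : False := by
  classical
  haveI : Fact r.Prime := ⟨X.prime⟩
  haveI : Fact (Nat.Prime 2) := ⟨Nat.prime_two⟩
  set M := Subgroup.normalizer (D.W : Set G) with hM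
  have hMmem : ∀ {m}, m ∈ M → ∀ w ∈ D.W, m * w * m⁻¹ ∈ D.W := fun hm w hw =>
    (Subgroup.mem_normalizer_iff.mp hm w).mp hw
  set A := Subgroup.centralizer (D.W : Set G) with hA
  have hAodd : Odd (Nat.card A) := by
    rw [← Nat.not_even_iff_odd]
    intro he
    obtain ⟨v, hv⟩ := exists_prime_orderOf_dvd_card' (G := A) 2 he.two_dvd
    exact X.n_odd (v := v.1) (by rw [Subgroup.orderOf_coe, hv]) (v.2 _ D.n_mem)
  have hAM : ∀ m ∈ M, ∀ a ∈ A, m * a * m⁻¹ ∈ A := by
    intro m hm a ha w hw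
    have h1 := ha _ (hMmem (inv_mem hm) w hw)
    rw [inv_inv] at h1
    calc w * (m * a * m⁻¹) = m * (m⁻¹ * w * m * a) * m⁻¹ := by group
      _ = m * (a * (m⁻¹ * w * m)) * m⁻¹ := by rw [h1]
      _ = m * a * m⁻¹ * w := by group
  have hPM : ∀ p ∈ D.P, p ∈ M := fun p hp => Subgroup.mem_normalizer_fintype (D.norm p hp)
  have hφA : ∀ i : ℕ, C.φ ^ i ∈ A → C.φ ^ i = 1 := fun i hi =>
    D.W_big_phi h fun w hw => hi w hw
  -- a centralised `r`-element of `C(W)` is trivial
  have hz : ∀ z ∈ A, Commute z X.D.u → orderOf z ≠ r := by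
    intro z hzA hzu hzo
    have hzM : z ∈ M := Subgroup.centralizer_le_normalizer _ hzA
    have hPM' : D.P ≤ M := hPM
    have hnd : ¬ r ∣ (D.P.subgroupOf M).index := fun hd =>
      D.index (hd.trans (Subgroup.relIndex_dvd_index_of_le hPM'))
    let S : Sylow r M := (D.isP.of_equiv (Subgroup.subgroupOfEquivOfLe hPM').symm).toSylow hnd
    obtain ⟨T, hT⟩ := (IsPGroup.of_card (n := 1) (by
      rw [Nat.card_zpowers, Subgroup.orderOf_mk, hzo, pow_one]) :
      IsPGroup r (Subgroup.zpowers (⟨z, hzM⟩ : M))).exists_le_sylow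
    obtain ⟨m, hm⟩ := MulAction.exists_smul_eq M T S
    have hmem : m * ⟨z, hzM⟩ * m⁻¹ ∈ (S : Subgroup M) := by
      rw [← hm, Sylow.coe_subgroup_smul]
      exact ⟨_, hT (Subgroup.mem_zpowers _), rfl⟩
    have hP : (m : G) * z * (m : G)⁻¹ ∈ D.P := hmem
    obtain ⟨w, hw, i, e⟩ := D.decomp _ hP
    have hi : C.φ ^ i = 1 := hφA i (by
      have hwA : w ∈ A := fun v hv => (D.comm v hv w hw).eq
      have := mul_mem (inv_mem hwA) (hAM _ m.2 z hzA)
      rwa [e, inv_mul_cancel_left] at this)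
    rw [hi, mul_one] at e
    have h1 := X.inverted_free (k := 1) (x := w) (s := m * X.D.u * (m : G)⁻¹)
      (by rw [pow_one, ← e, conj_pow, orderOf_dvd_iff_pow_eq_one.mp hzo.dvd, mul_one, mul_inv_cancel])
      ((CfsgLib.Involutions.orderOf_conj _ _).trans X.D.u_ord) (e ▸ by
        show _ = _
        rw [conj_mul, conj_mul, hzu.eq]) (D.inv w hw)
    rw [h1, conj_eq_one_iff] at e
    rw [e, orderOf_one] at hzo
    exact X.prime.one_lt.ne hzo
  refine D.finish M ?_ ?_
  · intro x hx g hg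
    have := D.sylow_control hx hg
    rwa [D.large_centerThompson h] at this
  intro x hx n' hn' hcP
  set u := X.D.u with hu
  have huu := X.uu
  have hui := X.u_inv
  have huM : u ∈ M := Subgroup.mem_normalizer_fintype fun w hw => by
    show u * w * u⁻¹ ∈ D.W
    rw [hu, D.inv w hw]; exact inv_mem hw
  -- `n'` is a product of elements of `C(W)` and `C(u)`
  set a := n' * u * n'⁻¹ * u with ha_def
  have ha : a ∈ A := by
    intro w hw
    have h1 := hMmem (inv_mem hn') _ (inv_mem hw)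
    rw [inv_inv] at h1
    have h2 : u * (n'⁻¹ * w⁻¹ * n') * u⁻¹ = (n'⁻¹ * w⁻¹ * n')⁻¹ := D.inv _ h1
    have h3 : a * w * a⁻¹ = w := by
      calc a * w * a⁻¹ = n' * u * (n'⁻¹ * (u * w * u⁻¹) * n') * u⁻¹ * n'⁻¹ := by rw [ha_def]; group
        _ = n' * (u * (n'⁻¹ * w⁻¹ * n') * u⁻¹) * n'⁻¹ := by rw [hu, D.inv w hw]; group
        _ = w := by rw [h2]; group
    exact (mul_inv_eq_iff_eq_mul.mp h3).symm
  have hai : u * a * u⁻¹ = a⁻¹ := by
    refine eq_inv_of_mul_eq_one_left ?_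
    rw [ha_def]
    calc u * (n' * u * n'⁻¹ * u) * u⁻¹ * (n' * u * n'⁻¹ * u) = u * (n' * (u * u) * n'⁻¹) * u := by group
      _ = 1 := by rw [huu, mul_one, mul_inv_cancel, mul_one, huu]
  obtain ⟨k, hk⟩ := hAodd
  set d := a ^ (k + 1) with hd
  have hdA : d ∈ A := pow_mem ha _
  have hdd : d * d = a := by
    rw [hd, ← pow_add, show k + 1 + (k + 1) = Nat.card A + 1 by omega, pow_succ,
      show a ^ Nat.card A = 1 from congrArg Subtype.val (pow_card_eq_one' (x := (⟨a, ha⟩ : A))), one_mul]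
  have hdi : u * d * u⁻¹ = d⁻¹ := by rw [hd, ← conj_pow, hai, inv_pow]
  set c := d⁻¹ * n' with hcdef
  have hcu : Commute c u := by
    refine mul_inv_eq_iff_eq_mul.mp ?_
    calc c * u * c⁻¹ = d⁻¹ * (n' * u * n'⁻¹ * u) * (u * u)⁻¹ * (u * d * u⁻¹) * u := by rw [hcdef]; group
      _ = u := by rw [← ha_def, ← hdd, huu, hdi]; group
  have hnd : n' = d * c := by rw [hcdef]; group
  have hcM : c ∈ M := mul_mem (inv_mem (Subgroup.centralizer_le_normalizer _ hdA)) hn'
  obtain ⟨w, hw, i, hx'⟩ := D.decomp x hx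
  obtain ⟨w', hw', j, hy⟩ := D.decomp _ hcP
  have hwA : ∀ {v}, v ∈ D.W → v ∈ A := fun hv v' hv' => (D.comm v' hv' _ hv).eq
  set q := C.φ ^ i * c * (C.φ ^ i)⁻¹ with hq
  set e := q * c⁻¹ with he
  have hiM : C.φ ^ i ∈ M := pow_mem (hPM _ D.φ_mem) i
  have hqM : q ∈ M := mul_mem (mul_mem hiM hcM) (inv_mem hiM)
  have heM : e ∈ M := mul_mem hqM (inv_mem hcM)
  set a1 := w * (C.φ ^ i * d * (C.φ ^ i)⁻¹) * (q * w⁻¹ * q⁻¹) * (e * d⁻¹ * e⁻¹)
  have ha1 : a1 ∈ A :=
    mul_mem (mul_mem (mul_mem (hwA hw) (hAM _ hiM d hdA)) (hAM _ hqM _ (inv_mem (hwA hw))))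
      (hAM _ heM _ (inv_mem hdA))
  have hcomm : ⁅x, n'⁆ = a1 * e := by
    rw [commutatorElement_def, hx', hnd]
    simp only [a1, e, q]
    group
  have hje : C.φ ^ j = w'⁻¹ * a1 * e := by rw [mul_assoc, ← hcomm, hy, inv_mul_cancel_left]
  set a2 := w'⁻¹ * a1
  have ha2 : a2 ∈ A := mul_mem (inv_mem (hwA hw')) ha1
  have hphiu : ∀ l : ℕ, Commute (C.φ ^ l) u := fun l => (X.u_phi.pow_right l).symm
  have heu : Commute e u := (((hphiu i).mul_left hcu).mul_left (hphiu i).inv_left).mul_left hcu.inv_left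
  have ha2u : Commute a2 u := by
    have h1 := (hphiu j).mul_left heu.inv_left
    rwa [hje, mul_inv_cancel_right] at h1
  -- transport to `C(t)`
  obtain ⟨g, hg⟩ := X.to_t X.D.u_ord
  set cg := MulAut.conj g with hcg
  have htr : ∀ {y}, Commute y u → Commute (cg y) C.t := fun hy => Ctx.conj_comm hg hy
  have hbase2 : cg a2 ∈ C.base := by
    obtain ⟨b, hb, l, hl⟩ := C.decomp (htr ha2u)
    have hpw : ∀ m : ℕ, ∃ b' ∈ C.base, (cg a2) ^ m = b' * C.φ ^ (l * m) := by
      intro m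
      induction m with
      | zero => exact ⟨1, one_mem _, by simp⟩
      | succ m ih =>
        obtain ⟨b', hb', e'⟩ := ih
        refine ⟨b' * (C.φ ^ (l * m) * b * (C.φ ^ (l * m))⁻¹),
          mul_mem hb' (C.base_conj (C.t_φ.symm.pow_left _) hb), ?_⟩
        rw [pow_succ, e', hl, mul_add, mul_one, pow_add]
        group
    have hnot : ¬ r ∣ orderOf a2 := by
      rintro ⟨m, hm⟩
      refine hz (a2 ^ m) (pow_mem ha2 m) (ha2u.pow_left m) ?_
      have hm0 : m ≠ 0 := by rintro rfl; rw [mul_zero] at hm; exact (orderOf_pos a2).ne' hm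
      rw [orderOf_pow' a2 hm0, hm, Nat.gcd_eq_right (dvd_mul_left m r), Nat.mul_div_cancel _ (Nat.pos_of_ne_zero hm0)]
    obtain ⟨b', hb', e'⟩ := hpw (orderOf a2)
    rw [← map_pow, pow_orderOf_eq_one, map_one, eq_comm, mul_eq_one_iff_eq_inv'] at e'
    have h1 := C.φ_pow_base (e' ▸ inv_mem hb')
    rw [← orderOf_dvd_iff_pow_eq_one, X.φ_ord] at h1
    have h2 : C.φ ^ l = 1 := by
      rw [← orderOf_dvd_iff_pow_eq_one, X.φ_ord]
      exact ((X.prime.dvd_mul).mp h1).resolve_right hnot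
    rw [hl, h2, mul_one]; exact hb
  have hbase : cg (C.φ ^ j) ∈ C.base := by
    rw [hje, map_mul]
    refine mul_mem hbase2 ?_
    have e1 : cg e = cg (C.φ ^ i) * cg c * (cg (C.φ ^ i))⁻¹ * (cg c)⁻¹ := by
      simp only [e, q, map_mul, map_inv]
    rw [e1]
    exact C.comm_mem_base (htr (hphiu i)) (htr hcu)
  have hj : C.φ ^ j = 1 := cg.injective ((C.base_eq_one X.two X.hL hbase (k := 1) (by
    rw [pow_one, ← map_pow, ← pow_mul, mul_comm, pow_mul, D.φ_pow_r, one_pow, map_one])).trans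
      (map_one cg).symm)
  rw [hy, hj, mul_one]
  exact hw'

end PData

end CfsgLib.Walter
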