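import Cfsg.Agent.Lib.Walter.J1Local.J
import Cfsg.Agent.S3081
import Cfsg.Agent.Lib.TransferApps

/-!
Case (J): fusion of `r`-elements and the invariant Sylow subgroup containing `⟨φ, n⟩`.
-/

set_option autoImplicit false
set_option linter.unusedSectionVars false

namespace CfsgLib.Walter

universe u

variable {G : Type u} [Group G] [Finite G]

local notation "PSL₂[" K "]" => Matrix.ProjectiveSpecialLinearGroup (Fin 2) K

/-- The data of case (J). -/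
structure Ctx (C : Coord G) (r : ℕ) where
  B : Base G
  D : JData C r
  hr : r = 7 ∨ r = 11 ∨ r = 19
  ord : orderOf C.σ = r
  hL : ¬ r ∣ Nat.card PSL₂[C.F]

theorem exists_ctx (B : Base G) (C : Coord G) {r : ℕ} (hJ : CaseJ C r) : Nonempty (Ctx C r) := by
  obtain ⟨D⟩ := exists_jdata hJ
  exact ⟨⟨B, D, hJ.hr, hJ.ord, not_dvd_psl hJ.hr hJ.hq⟩⟩

namespace Ctx

variable {C : Coord G} {r : ℕ} (X : Ctx C r)
include X

theorem prime : r.Prime := by rcases X.hr with h | h | h <;> subst h <;> norm_num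

theorem two : r ≠ 2 := by rcases X.hr with h | h | h <;> omega

theorem φ_ord : orderOf C.φ = r := C.φ_ord.trans X.ord

theorem φ_ne : C.φ ≠ 1 := fun e => X.prime.one_lt.ne (by rw [← X.φ_ord, e, orderOf_one])

theorem φ_gen {j : ℕ} (hj : C.φ ^ j ≠ 1) : ∃ b : ℕ, (C.φ ^ j) ^ b = C.φ := by
  have hcop : Nat.Coprime j r := Nat.Coprime.symm (X.prime.coprime_iff_not_dvd.mpr fun h =>
    hj (by rw [← orderOf_dvd_iff_pow_eq_one, X.φ_ord]; exact h))
  obtain ⟨b, hb⟩ := exists_pow_eq_self_of_coprime (x := C.φ) (n := j) (by rwa [X.φ_ord])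
  exact ⟨b, hb⟩

theorem zpow_phi (i : ℤ) : ∃ j : ℕ, C.φ ^ j = C.φ ^ i := by
  obtain ⟨j, hj⟩ := (isOfFinOrder_of_finite C.φ).mem_powers_iff_mem_zpowers.mpr
    (Subgroup.zpow_mem _ (Subgroup.mem_zpowers C.φ) i)
  exact ⟨j, hj⟩

/-- The centraliser of `φ` splits. -/
theorem cent_phi {x : G} (hx : Commute x C.φ) : ∃ (i : ℕ) (j : G), j ∈ X.D.J ∧ x = C.φ ^ i * j := by
  have hn : Subgroup.zpowers C.φ ≤ Subgroup.normalizer (X.D.J : Set G) :=
    Subgroup.zpowers_le.mpr (Subgroup.centralizer_le_normalizer _ fun y hy => (X.D.phi y hy).eq.symm)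
  have h : x ∈ Subgroup.zpowers C.φ ⊔ X.D.J := by
    rw [X.D.sup]; exact Subgroup.mem_centralizer_singleton_iff.mpr hx
  rw [← SetLike.mem_coe, Subgroup.coe_mul_of_left_le_normalizer_right _ _ hn] at h
  obtain ⟨_, ⟨i, rfl⟩, j, hj, rfl⟩ := h
  obtain ⟨k, hk⟩ := X.zpow_phi i
  exact ⟨k, j, hj, by rw [hk]⟩

theorem φ_pow_J {i : ℕ} (h : C.φ ^ i ∈ X.D.J) : C.φ ^ i = 1 :=
  Subgroup.disjoint_def.mp (disjoint_iff.mpr X.D.inf) (Subgroup.pow_mem _ (Subgroup.mem_zpowers _) i) h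

theorem odd_pow {k : ℕ} : Odd (r ^ k) := (X.prime.odd_of_ne_two X.two).pow

theorem commute_phi_of_pow {i : ℕ} (hi : C.φ ^ i ≠ 1) {x : G} (h : Commute x (C.φ ^ i)) : Commute x C.φ := by
  obtain ⟨b, hb⟩ := X.φ_gen hi
  have := h.pow_right b
  rwa [hb] at this

/-- `N(⟨φ⟩) = C(φ)`. -/
theorem norm_phi {m : G} {a : ℕ} (h : m * C.φ * m⁻¹ = C.φ ^ a) : Commute m C.φ := by
  haveI : Fact r.Prime := ⟨X.prime⟩
  have ha : C.φ ^ a ≠ 1 := fun e => X.φ_ne (conj_eq_one_iff.mp (h.trans e))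
  have hmt : orderOf (m * C.t * m⁻¹) = 2 := (CfsgLib.Involutions.orderOf_conj m C.t).trans C.t_ord
  have hv : Commute (m * C.t * m⁻¹) C.φ := X.commute_phi_of_pow ha (by
    rw [← h]
    show m * C.t * m⁻¹ * (m * C.φ * m⁻¹) = m * C.φ * m⁻¹ * (m * C.t * m⁻¹)
    rw [conj_mul, conj_mul, C.t_φ.eq])
  obtain ⟨i, j, hj, e⟩ := X.cent_phi hv
  have hi : C.φ ^ i = 1 := by
    refine C.φ_pow_two ?_
    have h2 : C.φ ^ i * j * (C.φ ^ i * j) = 1 := by rw [← e, conj_mul, C.tt, mul_one, mul_inv_cancel]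
    have hc : Commute (C.φ ^ i) j := (X.D.phi j hj).pow_left i
    rw [hc.symm.mul_mul_mul_comm] at h2
    have h3 := eq_inv_of_mul_eq_one_left h2
    rw [← pow_add] at h3 ⊢
    exact X.φ_pow_J (h3 ▸ inv_mem (mul_mem hj hj))
  rw [hi, one_mul] at e
  obtain ⟨j', hj', hjt⟩ := X.D.conj _ hj (by rw [← e]; exact hmt)
  rw [← e] at hjt
  have hc : Commute (j' * m) C.t := by
    refine mul_inv_eq_iff_eq_mul.mp ?_
    calc j' * m * C.t * (j' * m)⁻¹ = j' * (m * C.t * m⁻¹) * j'⁻¹ := by group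
      _ = C.t := hjt
  have hjφ := X.D.phi j' hj'
  have hconj : j' * m * C.φ * (j' * m)⁻¹ ∈ Subgroup.zpowers C.φ := by
    rw [show j' * m * C.φ * (j' * m)⁻¹ = j' * (m * C.φ * m⁻¹) * j'⁻¹ by group, h, ← (hjφ.pow_left a).eq,
      mul_inv_cancel_right]
    exact Subgroup.pow_mem _ (Subgroup.mem_zpowers _) _
  have := C.rinj X.two X.hL (IsPGroup.of_card (n := 1) (by rw [Nat.card_zpowers, X.φ_ord, pow_one]) :
    IsPGroup r (Subgroup.zpowers C.φ)) hc C.t_φ.symm (Subgroup.mem_zpowers _) hconj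
  have h' := hjφ.symm.inv_left.mul_left this
  rwa [inv_mul_cancel_left] at h'

theorem to_t {s : G} (hs : orderOf s = 2) : ∃ g : G, g * s * g⁻¹ = C.t := X.B.all_conj hs C.t_ord

omit X in
theorem conj_comm {g s t x : G} (h : g * s * g⁻¹ = t) (hx : Commute x s) : Commute (g * x * g⁻¹) t := by
  show _ = _
  rw [← h, conj_mul, conj_mul, hx.eq]

/-- An element centralising an involution and normalising inside an `r`-group centralises. -/
theorem invl_rinj {s : G} (hs : orderOf s = 2) {Q : Subgroup G} (hQ : IsPGroup r Q) {a x : G} (ha : Commute a s)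
    (hxs : Commute x s) (hx : x ∈ Q) (hax : a * x * a⁻¹ ∈ Q) : Commute a x := by
  haveI : Fact r.Prime := ⟨X.prime⟩
  obtain ⟨g, hg⟩ := X.to_t hs
  have h := C.rinj X.two X.hL (hQ.map (MulAut.conj g).toMonoidHom) (conj_comm hg ha) (conj_comm hg hxs)
    ⟨x, hx, rfl⟩ ⟨_, hax, by show g * (a * x * a⁻¹) * g⁻¹ = _; group⟩
  refine mul_inv_eq_iff_eq_mul.mp ?_
  have h' := mul_inv_eq_iff_eq_mul.mpr h.eq
  calc a * x * a⁻¹ = g⁻¹ * (g * a * g⁻¹ * (g * x * g⁻¹) * (g * a * g⁻¹)⁻¹) * g := by group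
    _ = x := by rw [h']; group

theorem invl_card {s : G} (hs : orderOf s = 2) {Q : Subgroup G} (hQ : IsPGroup r Q)
    (hQs : ∀ q ∈ Q, Commute q s) : Nat.card Q ≤ r := by
  haveI : Fact r.Prime := ⟨X.prime⟩
  obtain ⟨g, hg⟩ := X.to_t hs
  rw [← Subgroup.card_map_of_injective (f := (MulAut.conj g).toMonoidHom) (MulAut.conj g).injective]
  refine C.card_le X.two X.ord X.hL (hQ.map _) ?_
  rintro _ ⟨q, hq, rfl⟩
  exact conj_comm hg (hQs q hq)

/-- An `r`-element centralised by one involution and inverted by an element is trivial. -/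
theorem inverted_free {x s v : G} {k : ℕ} (hk : x ^ r ^ k = 1) (hs : orderOf s = 2) (hxs : Commute x s)
    (hv : v * x * v⁻¹ = x⁻¹) : x = 1 := by
  haveI : Fact r.Prime := ⟨X.prime⟩
  obtain ⟨g, hg⟩ := X.to_t hs
  obtain ⟨c, j, -, hcj⟩ := C.r_elem X.two X.ord X.hL (conj_comm hg hxs) (k := k) (by
    rw [conj_pow, hk, mul_one, mul_inv_cancel])
  by_contra hx
  have hj : C.φ ^ j ≠ 1 := by
    rw [← hcj]
    intro e
    exact hx (conj_eq_one_iff.mp (conj_eq_one_iff.mp e))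
  set v' := c * g * v * (c * g)⁻¹
  have hinv : v' * C.φ ^ j * v'⁻¹ = (C.φ ^ j)⁻¹ := by
    rw [← hcj]
    calc v' * (c * (g * x * g⁻¹) * c⁻¹) * v'⁻¹ = c * (g * (v * x * v⁻¹) * g⁻¹) * c⁻¹ := by simp only [v']; group
      _ = _ := by rw [hv]; group
  obtain ⟨b, hb⟩ := X.φ_gen hj
  have hinv' : v' * C.φ * v'⁻¹ = C.φ⁻¹ := by rw [← hb, ← conj_pow, hinv, inv_pow]
  obtain ⟨a, ha⟩ := X.zpow_phi (-1)
  have := X.norm_phi (m := v') (a := a) (by rw [hinv', ha, zpow_neg_one])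
  rw [this.eq, mul_inv_cancel_right] at hinv'
  exact X.φ_ne (eq_one_of_sq (X.prime.odd_of_ne_two X.two) (by rw [← X.φ_ord]; exact pow_orderOf_eq_one _)
    (by nth_rewrite 2 [hinv']; exact mul_inv_cancel _))

theorem n_pow : X.D.n ^ r = 1 := orderOf_dvd_iff_pow_eq_one.mp X.D.n_ord.dvd

theorem n_phi : Commute C.φ X.D.n := X.D.phi _ X.D.n_mem

theorem u_phi : Commute X.D.u C.φ := (X.D.phi _ X.D.u_mem).symm

theorem n_ne : X.D.n ≠ 1 := fun e => X.prime.one_lt.ne (by rw [← X.D.n_ord, e, orderOf_one])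

theorem hab : ∀ P : Sylow 2 G, ∀ a b : P, a * b = b * a := X.B.hab

/-- `C(n)` has odd order. -/
theorem n_odd {v : G} (hv : orderOf v = 2) : ¬ Commute X.D.n v := fun hc =>
  X.n_ne (X.inverted_free (k := 1) (by rw [pow_one, X.n_pow]) hv hc X.D.u_n)

/-- An `r`-subgroup of `J` containing `n` is `⟨n⟩`. -/
theorem J_rgroup {Q : Subgroup G} (hQ : IsPGroup r Q) (hQJ : Q ≤ X.D.J) (hn : X.D.n ∈ Q) {x : G} (hx : x ∈ Q) :
    x ∈ Subgroup.zpowers X.D.n := by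
  haveI : Fact r.Prime := ⟨X.prime⟩
  refine X.D.cent_n x (hQJ hx) ?_
  haveI : Nontrivial Q := ⟨⟨_, hn⟩, 1, fun e => X.n_ne (congrArg Subtype.val e)⟩
  haveI := hQ.center_nontrivial
  obtain ⟨⟨⟨z, hzQ⟩, hzc⟩, hz1⟩ := exists_ne (1 : Subgroup.center Q)
  have hz : ∀ y ∈ Q, Commute y z := fun y hy => congrArg Subtype.val (Subgroup.mem_center_iff.mp hzc ⟨y, hy⟩)
  obtain ⟨i, hi⟩ := X.D.cent_n z (hQJ hzQ) (hz _ hn).symm
  simp only at hi
  have hne : X.D.n ^ i ≠ 1 := fun e => hz1 (Subtype.ext (Subtype.ext (hi ▸ e)))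
  obtain ⟨j, hj⟩ := (isOfFinOrder_of_finite X.D.n).mem_powers_iff_mem_zpowers.mpr
    (Subgroup.zpow_mem _ (Subgroup.mem_zpowers X.D.n) i)
  simp only at hj
  have hcop : Nat.Coprime j r := Nat.Coprime.symm (X.prime.coprime_iff_not_dvd.mpr fun h => hne (by
    rw [← hj, ← orderOf_dvd_iff_pow_eq_one, X.D.n_ord]; exact h))
  obtain ⟨b, hb⟩ := exists_pow_eq_self_of_coprime (x := X.D.n) (n := j) (by rwa [X.D.n_ord])
  have := (hz x hx).pow_right b
  rwa [← hi, ← hj, hb] at this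

end Ctx

end CfsgLib.Walter
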