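import Cfsg.Agent.Lib.Walter.J1Local.Common

/-!
Case (J), `|P| ≤ r³`: the normaliser of `P` fixes the subgroup `⟨φ⟩Z`.
-/

set_option autoImplicit false
set_option linter.unusedSectionVars false

namespace CfsgLib.Walter

open scoped commutatorElement

universe u

variable {G : Type u} [Group G] [Finite G] {C : Coord G} {r : ℕ} {X : Ctx C r}

/-- The properties of the small cases. -/
structure SData (D : PData X) where
  Z : Subgroup G
  Z_le : Z ≤ Subgroup.zpowers X.D.n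
  cardW : Nat.card D.W = r * Nat.card Z
  central : ∀ z ∈ Z, ∀ x ∈ D.P, Commute z x
  n_central : ∀ x ∈ D.P, Commute X.D.n x
  comm : ∀ x ∈ D.P, ∀ y ∈ D.P, ⁅x, y⁆ ∈ Z
  cls : ∀ z ∈ Z, ∃ p ∈ D.P, p * C.φ * p⁻¹ = C.φ * z
  norm : ∀ s ∈ Subgroup.normalizer (D.P : Set G), ∀ z ∈ Z, s * z * s⁻¹ ∈ Z
  fix : ∀ g ∈ Subgroup.normalizer (D.P : Set G), (∀ v ∈ D.P, g * v * g⁻¹ * v⁻¹ ∈ Z) → Commute g X.D.n
  h : G
  h_norm : h ∈ Subgroup.normalizer (D.P : Set G)
  h_phi : Commute h C.φ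
  h_n : ¬ Commute h X.D.n
  h_pow : Commute (h ^ X.D.p) X.D.n
  control : ∀ x ∈ D.P, ∀ g : G, g * x * g⁻¹ ∈ D.P →
    ∃ m ∈ Subgroup.normalizer (D.P : Set G), m * x * m⁻¹ = g * x * g⁻¹

theorem eq_of_prime_step {r : ℕ} (hr : r.Prime) {K H L : Subgroup G} (hKH : K ≤ H) (hHL : H ≤ L) (hne : ¬ H ≤ K)
    (hc : Nat.card L ≤ r * Nat.card K) (hdvd : IsPGroup r L) : H = L := by
  haveI : Fact r.Prime := ⟨hr⟩
  refine Subgroup.eq_of_le_of_card_ge hHL (hc.trans ?_)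
  obtain ⟨a, ha⟩ := IsPGroup.iff_card.mp (hdvd.to_le (hKH.trans hHL))
  obtain ⟨b, hb⟩ := IsPGroup.iff_card.mp (hdvd.to_le hHL)
  rw [ha, hb, ← pow_succ']
  refine Nat.pow_le_pow_right hr.pos ?_
  by_contra hlt
  refine hne (Subgroup.eq_of_le_of_card_ge hKH ?_).ge
  rw [ha, hb]
  exact Nat.pow_le_pow_right hr.pos (by omega)

namespace SData

variable {D : PData X} (S : SData D)
include S

theorem Z_W : S.Z ≤ D.W := S.Z_le.trans (Subgroup.zpowers_le.mpr D.n_mem)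

theorem Z_P : S.Z ≤ D.P := S.Z_W.trans D.W_le

/-- The subgroup `⟨φ⟩Z`. -/
def L : Subgroup G where
  carrier := {x | ∃ i : ℕ, ∃ z ∈ S.Z, x = C.φ ^ i * z}
  one_mem' := ⟨0, 1, one_mem _, by simp⟩
  mul_mem' := by
    rintro _ _ ⟨i, z, hz, rfl⟩ ⟨j, z', hz', rfl⟩
    refine ⟨i + j, z * z', mul_mem hz hz', ?_⟩
    rw [pow_add, mul_assoc, ← mul_assoc z, (S.central z hz _ (pow_mem D.φ_mem j)).eq]
    group
  inv_mem' := by
    rintro _ ⟨i, z, hz, rfl⟩
    obtain ⟨j, hj⟩ := X.zpow_phi (-(i : ℤ))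
    refine ⟨j, z⁻¹, inv_mem hz, ?_⟩
    rw [_root_.mul_inv_rev, hj, zpow_neg, zpow_natCast]
    exact ((S.central z hz _ (pow_mem D.φ_mem i)).inv_inv).eq

theorem φ_L : C.φ ∈ S.L := ⟨1, 1, one_mem _, by simp⟩

theorem Z_L : S.Z ≤ S.L := fun z hz => ⟨0, z, hz, by simp⟩

theorem L_P : S.L ≤ D.P := by
  rintro _ ⟨i, z, hz, rfl⟩
  exact mul_mem (pow_mem D.φ_mem i) (S.Z_P hz)

theorem card_L : Nat.card S.L = r * Nat.card S.Z := by
  suffices h : Nat.card S.L = Nat.card (Subgroup.zpowers C.φ × S.Z) by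
    rw [h, Nat.card_prod, Nat.card_zpowers, X.φ_ord]
  refine (Nat.card_congr (Equiv.ofBijective
    (fun q : Subgroup.zpowers C.φ × S.Z => (⟨q.1.1 * q.2.1, by
      obtain ⟨i, hi⟩ := (isOfFinOrder_of_finite C.φ).mem_powers_iff_mem_zpowers.mpr q.1.2
      exact ⟨i, q.2.1, q.2.2, by simp only at hi; rw [hi]⟩⟩ : S.L)) ⟨?_, ?_⟩)).symm
  · rintro ⟨⟨a, ha⟩, ⟨z, hz⟩⟩ ⟨⟨b, hb⟩, ⟨z', hz'⟩⟩ h
    have h' : a * z = b * z' := congrArg Subtype.val h
    obtain ⟨k, hk⟩ := (isOfFinOrder_of_finite C.φ).mem_powers_iff_mem_zpowers.mpr (mul_mem (inv_mem hb) ha)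
    simp only at hk
    have h1 : b⁻¹ * a = z' * z⁻¹ := by
      rw [eq_mul_inv_iff_mul_eq, mul_assoc, h', inv_mul_cancel_left]
    have h2 := D.φ_pow k (by rw [hk, h1]; exact mul_mem (S.Z_W hz') (inv_mem (S.Z_W hz)))
    rw [hk, inv_mul_eq_one] at h2
    subst h2
    exact Prod.ext rfl (Subtype.ext (mul_left_cancel h'))
  · rintro ⟨_, i, z, hz, rfl⟩
    exact ⟨⟨⟨_, Subgroup.pow_mem _ (Subgroup.mem_zpowers _) i⟩, ⟨z, hz⟩⟩, rfl⟩

theorem norm_L {s : G} (hs : s ∈ Subgroup.normalizer (D.P : Set G)) (h : s * C.φ * s⁻¹ ∈ S.L) :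
    s ∈ Subgroup.normalizer (S.L : Set G) := by
  refine Subgroup.mem_normalizer_fintype ?_
  rintro _ ⟨i, z, hz, rfl⟩
  show s * (C.φ ^ i * z) * s⁻¹ ∈ S.L
  rw [← conj_mul, ← conj_pow]
  exact mul_mem (pow_mem h i) (S.Z_L (S.norm s hs z hz))

/-- An element mapping `φ` into `⟨φ⟩Z` fixes it modulo `Z`. -/
theorem fix_phi {s : G} (hs : s ∈ Subgroup.normalizer (D.P : Set G)) (h : s * C.φ * s⁻¹ ∈ S.L) :
    ∃ p ∈ D.P, ∃ z ∈ S.Z, Commute (p * s) C.φ ∧ s * C.φ * s⁻¹ = C.φ * z := by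
  obtain ⟨i, z, hz, e⟩ := h
  have hi : C.φ ^ i ≠ 1 := by
    intro h1
    rw [h1, one_mul] at e
    have h2 := S.norm s⁻¹ (inv_mem hs) z hz
    rw [inv_inv, ← e, show s⁻¹ * (s * C.φ * s⁻¹) * s = C.φ by group] at h2
    exact D.φ_not (S.Z_W h2)
  obtain ⟨b, hb⟩ := X.φ_gen hi
  obtain ⟨p, hp, hpe⟩ := S.cls (z ^ b) (pow_mem hz b)
  -- `p φ^i p⁻¹ = φ^i z`
  have hzp : ∀ x ∈ D.P, Commute z x := S.central z hz
  have hbi : C.φ ^ (i * b) = C.φ := by rw [pow_mul]; exact hb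
  have hpi : p * C.φ ^ i * p⁻¹ = C.φ ^ i * z := by
    rw [← conj_pow, hpe, ((hzp _ D.φ_mem).pow_left b).symm.mul_pow]
    refine congrArg (C.φ ^ i * ·) ?_
    rw [← pow_mul, mul_comm b i]
    refine (pow_eq_pow_iff_modEq.mpr ?_).trans (pow_one z)
    have h1 : C.φ ^ (i * b) = C.φ ^ 1 := by rw [hbi, pow_one]
    rw [pow_eq_pow_iff_modEq, X.φ_ord] at h1
    refine h1.of_dvd ?_
    obtain ⟨j, hj⟩ := (isOfFinOrder_of_finite X.D.n).mem_powers_iff_mem_zpowers.mpr (S.Z_le hz)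
    simp only at hj
    rw [← hj]
    exact orderOf_dvd_of_pow_eq_one (by rw [← pow_mul, mul_comm, pow_mul, X.n_pow, one_pow])
  have hconj : p⁻¹ * s * C.φ * (p⁻¹ * s)⁻¹ = C.φ ^ i := by
    calc p⁻¹ * s * C.φ * (p⁻¹ * s)⁻¹ = p⁻¹ * (s * C.φ * s⁻¹) * p := by group
      _ = p⁻¹ * (p * C.φ ^ i * p⁻¹) * p := by rw [e, hpi]
      _ = C.φ ^ i := by group
  have hc := X.norm_phi hconj
  refine ⟨p⁻¹, inv_mem hp, z, hz, hc, ?_⟩
  rw [hc.eq, mul_inv_cancel_right] at hconj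
  rw [e, ← hconj]

/-- The orbit of `⟨φ⟩Z` is congruent to one. -/
theorem orbit_mod {q : ℕ} [Fact q.Prime] {g : G} {a : ℕ} (hg : g ∈ Subgroup.normalizer (D.P : Set G))
    (hgo : orderOf g = q ^ a) (hgφ : g * C.φ * g⁻¹ ∈ S.L) (hgn : ¬ Commute g X.D.n) :
    ((Subgroup.normalizer (S.L : Set G)).subgroupOf (Subgroup.normalizer (D.P : Set G))).index ≡ 1 [MOD q] := by
  set N := Subgroup.normalizer (D.P : Set G) with hN
  set S0 := (Subgroup.normalizer (S.L : Set G)).subgroupOf N with hS0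
  set g' : N := ⟨g, hg⟩
  have hgS : g' ∈ S0 := S.norm_L hg hgφ
  have hgp : IsPGroup q (Subgroup.zpowers g') :=
    IsPGroup.of_card (n := a) (by rw [Nat.card_zpowers, Subgroup.orderOf_mk, hgo])
  have hfix : MulAction.fixedPoints (Subgroup.zpowers g') (N ⧸ S0) = {((1 : N) : N ⧸ S0)} := by
    ext c
    induction c using QuotientGroup.induction_on with
    | _ x =>
    constructor
    · intro hx
      have h1 : ((g' * x : N) : N ⧸ S0) = (x : N ⧸ S0) := hx ⟨g', Subgroup.mem_zpowers g'⟩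
      rw [QuotientGroup.eq, mul_inv_rev] at h1
      have hs : x⁻¹ * g' * x ∈ S0 := by
        have := inv_mem h1
        rwa [mul_inv_rev, mul_inv_rev, inv_inv, inv_inv, ← mul_assoc] at this
      rw [Set.mem_singleton_iff, QuotientGroup.eq, mul_one, inv_mem_iff]
      by_contra hxS
      have hsφ : ((x⁻¹ * g' * x : N) : G) * C.φ * ((x⁻¹ * g' * x : N) : G)⁻¹ ∈ S.L :=
        (Subgroup.mem_normalizer_iff.mp hs C.φ).mp S.φ_L
      obtain ⟨-, -, z, hz, -, hse⟩ := S.fix_phi (x⁻¹ * g' * x).2 hsφ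
      obtain ⟨-, -, z0, hz0, -, hge⟩ := S.fix_phi hg hgφ
      set y := (x : G) * C.φ * (x : G)⁻¹ with hy
      have hyP : y ∈ D.P := (Subgroup.mem_normalizer_iff.mp x.2 _).mp D.φ_mem
      let T : Subgroup G :=
        { carrier := {v | v ∈ D.P ∧ g * v * g⁻¹ * v⁻¹ ∈ S.Z}
          one_mem' := ⟨one_mem _, by simp⟩
          mul_mem' := fun {v w} hv hw => ⟨mul_mem hv.1 hw.1, by
            have e : g * (v * w) * g⁻¹ * (v * w)⁻¹ = (g * v * g⁻¹ * v⁻¹) * (v * (g * w * g⁻¹ * w⁻¹) * v⁻¹) := by group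
            rw [e, ← (S.central _ hw.2 v hv.1).eq, mul_inv_cancel_right]
            exact mul_mem hv.2 hw.2⟩
          inv_mem' := fun {v} hv => ⟨inv_mem hv.1, by
            have e : g * v⁻¹ * g⁻¹ * v⁻¹⁻¹ = v⁻¹ * (g * v * g⁻¹ * v⁻¹)⁻¹ * v := by group
            rw [e, ← (S.central _ (inv_mem hv.2) _ (inv_mem hv.1)).eq, inv_mul_cancel_right]
            exact inv_mem hv.2⟩ }
      have hφT : C.φ ∈ T := ⟨D.φ_mem, by
        rw [hge, ← (S.central z0 hz0 _ D.φ_mem).eq, mul_inv_cancel_right]; exact hz0⟩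
      have hyT : y ∈ T := ⟨hyP, by
        have hse' : (x : G)⁻¹ * g * (x : G) * C.φ * ((x : G)⁻¹ * g * (x : G))⁻¹ = C.φ * z := hse
        have e : g * y * g⁻¹ * y⁻¹ = (x : G) * ((x : G)⁻¹ * g * x * C.φ * ((x : G)⁻¹ * g * x)⁻¹ * C.φ⁻¹) * (x : G)⁻¹ := by
          rw [hy]; group
        rw [e, hse', ← (S.central z hz _ D.φ_mem).eq, mul_inv_cancel_right]
        exact S.norm _ x.2 z hz⟩
      have hLT : S.L ≤ T := by
        rintro _ ⟨i, w, hw, rfl⟩
        exact mul_mem (pow_mem hφT i) ⟨S.Z_P hw, mul_mem (S.norm g hg w hw) (inv_mem hw)⟩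
      have hT : T = D.P := by
        refine eq_of_prime_step X.prime hLT (fun v hv => hv.1) (fun hle => hxS ?_) ?_ D.isP
        · exact S.norm_L x.2 (hle hyT)
        · rw [D.card_P, S.cardW, S.card_L, mul_comm (r * Nat.card S.Z)]
      exact hgn (S.fix g hg fun v hv => (show v ∈ T from hT ▸ hv).2)
    · rintro hx ⟨_, k, rfl⟩
      rw [Set.mem_singleton_iff] at hx
      rw [hx]
      show ((g' ^ k * 1 : N) : N ⧸ S0) = _
      rw [mul_one, QuotientGroup.eq, mul_one]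
      exact inv_mem (Subgroup.zpow_mem _ hgS k)
  have h := hgp.card_modEq_card_fixedPoints (α := N ⧸ S0)
  rw [hfix, Nat.card_coe_set_eq, Set.ncard_singleton] at h
  exact h

/-- The orbit of `⟨φ⟩Z` has at most `r` members. -/
theorem orbit_le :
    ((Subgroup.normalizer (S.L : Set G)).subgroupOf (Subgroup.normalizer (D.P : Set G))).index ≤ r := by
  classical
  set N := Subgroup.normalizer (D.P : Set G) with hN
  set S0 := (Subgroup.normalizer (S.L : Set G)).subgroupOf N with hS0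
  have key : ∀ x : N, ∃ v : D.W, (v : G) * C.φ ∈ S.L.map (MulAut.conj (x : G)).toMonoidHom := by
    intro x
    have hy : (x : G) * C.φ * (x : G)⁻¹ ∈ D.P := (Subgroup.mem_normalizer_iff.mp x.2 _).mp D.φ_mem
    obtain ⟨w, hw, i, e⟩ := D.decomp _ hy
    have hi : C.φ ^ i ≠ 1 := by
      intro h1
      rw [h1, mul_one] at e
      obtain ⟨k, hk⟩ := D.pow_eq_one (D.W_le hw)
      have := X.inverted_free (x := w) hk ((CfsgLib.Involutions.orderOf_conj (x : G) _).trans X.D.u_ord) (e ▸ by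
        show _ = _
        rw [conj_mul, conj_mul, X.u_phi.eq]) (D.inv w hw)
      rw [this, conj_eq_one_iff] at e
      exact X.φ_ne e
    obtain ⟨b, hb⟩ := X.φ_gen hi
    have hpw : ∀ m : ℕ, ∃ v ∈ D.W, (w * C.φ ^ i) ^ m = v * (C.φ ^ i) ^ m := by
      intro m
      induction m with
      | zero => exact ⟨1, one_mem _, by simp⟩
      | succ m ih =>
        obtain ⟨v, hv, e'⟩ := ih
        refine ⟨v * ((C.φ ^ i) ^ m * w * ((C.φ ^ i) ^ m)⁻¹),
          mul_mem hv (D.norm _ (pow_mem (pow_mem D.φ_mem i) m) w hw), ?_⟩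
        rw [pow_succ, e', pow_succ]
        group
    obtain ⟨v, hv, e'⟩ := hpw b
    refine ⟨⟨v, hv⟩, C.φ ^ b, pow_mem S.φ_L b, ?_⟩
    show (x : G) * C.φ ^ b * (x : G)⁻¹ = v * C.φ
    rw [← conj_pow, e, e', hb]
  choose v hv using key
  set Zw := S.Z.subgroupOf D.W
  let F : N ⧸ S0 → D.W ⧸ Zw := fun c => (v c.out : D.W ⧸ Zw)
  have hF : Function.Injective F := by
    intro c c' h
    have hz0 := QuotientGroup.eq.mp h
    have hz : ((v c.out : D.W) : G)⁻¹ * (v c'.out : D.W) ∈ S.Z := hz0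
    set a : G := ((c.out : N) : G)
    set a' : G := ((c'.out : N) : G)
    set L1 := S.L.map (MulAut.conj a).toMonoidHom
    set L2 := S.L.map (MulAut.conj a').toMonoidHom
    have hsub : ∀ x : N, S.Z ≤ S.L.map (MulAut.conj (x : G)).toMonoidHom := fun x z hz => by
      refine ⟨(x : G)⁻¹ * z * x, S.Z_L ?_, by show (x : G) * ((x : G)⁻¹ * z * x) * (x : G)⁻¹ = z; group⟩
      have := S.norm _ (inv_mem x.2) z hz
      rwa [inv_inv] at this
    have hbig : ∀ x : N, ∀ H : Subgroup G, S.Z ≤ H → H ≤ S.L.map (MulAut.conj (x : G)).toMonoidHom → ¬ H ≤ S.Z →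
        H = S.L.map (MulAut.conj (x : G)).toMonoidHom := fun x H h1 h2 h3 =>
      eq_of_prime_step X.prime h1 h2 h3
        (by rw [Subgroup.card_map_of_injective (MulAut.conj (x : G)).injective, S.card_L])
        ((D.isP.to_le S.L_P).map _)
    set w1 := ((v c.out : D.W) : G) * C.φ
    have h1 : w1 ∈ L1 := hv _
    have h2 : w1 ∈ L2 := by
      have e : w1 = (((v c.out : D.W) : G)⁻¹ * (v c'.out : D.W))⁻¹ * (((v c'.out : D.W) : G) * C.φ) := by
        have hcm := (S.central _ (inv_mem hz) _ (D.W_le (v c'.out).2))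
        show ((v c.out : D.W) : G) * C.φ = _
        rw [← mul_assoc, hcm.eq, _root_.mul_inv_rev, inv_inv]
        group
      rw [e]
      exact mul_mem (hsub _ (inv_mem hz)) (hv _)
    have hne : ¬ S.Z ⊔ Subgroup.zpowers w1 ≤ S.Z := fun hle => D.φ_not (by
      have hw1 : w1 ∈ D.W := S.Z_W (hle (Subgroup.mem_sup_right (Subgroup.mem_zpowers _)))
      have := mul_mem (inv_mem (v c.out).2) hw1
      rwa [inv_mul_cancel_left] at this)
    have e1 := hbig c.out _ le_sup_left (sup_le (hsub _) (Subgroup.zpowers_le.mpr h1)) hne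
    have e2 := hbig c'.out _ le_sup_left (sup_le (hsub _) (Subgroup.zpowers_le.mpr h2)) hne
    have heq : L1 = L2 := e1.symm.trans e2
    have hS : (c.out⁻¹ * c'.out : N) ∈ S0 := by
      refine S.norm_L (c.out⁻¹ * c'.out).2 ?_
      have h3 : a' * C.φ * a'⁻¹ ∈ L1 := heq ▸ ⟨C.φ, S.φ_L, rfl⟩
      obtain ⟨l, hl, e⟩ := h3
      have e' : a * l * a⁻¹ = a' * C.φ * a'⁻¹ := e
      show a⁻¹ * a' * C.φ * (a⁻¹ * a')⁻¹ ∈ S.L
      rw [show a⁻¹ * a' * C.φ * (a⁻¹ * a')⁻¹ = a⁻¹ * (a' * C.φ * a'⁻¹) * a by group, ← e',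
        show a⁻¹ * (a * l * a⁻¹) * a = l by group]
      exact hl
    rw [← c.out_eq', ← c'.out_eq']
    exact QuotientGroup.eq.mpr hS
  have h := Nat.card_le_card_of_injective F hF
  refine h.trans (le_of_eq ?_)
  have h2 := Zw.index_mul_card
  rw [Nat.card_congr (Subgroup.subgroupOfEquivOfLe S.Z_W).toEquiv, S.cardW] at h2
  exact Nat.eq_of_mul_eq_mul_right Nat.card_pos h2

/-- `N(P)` fixes `⟨φ⟩Z`. -/
theorem orbit_one {s : G} (hs : s ∈ Subgroup.normalizer (D.P : Set G)) : s * C.φ * s⁻¹ ∈ S.L := by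
  classical
  haveI : Fact r.Prime := ⟨X.prime⟩
  set N := Subgroup.normalizer (D.P : Set G) with hN
  set S0 := (Subgroup.normalizer (S.L : Set G)).subgroupOf N with hS0
  set k := S0.index with hk
  have hp : X.D.p.Prime := by rcases X.D.rp with ⟨-, e⟩ | ⟨-, e⟩ <;> rw [e] <;> norm_num
  haveI : Fact X.D.p.Prime := ⟨hp⟩
  haveI : Fact (Nat.Prime 2) := ⟨Nat.prime_two⟩
  have huN : X.D.u ∈ N := Subgroup.mem_normalizer_fintype D.u_norm
  have hu : k ≡ 1 [MOD 2] := S.orbit_mod (a := 1) huN (by rw [X.D.u_ord, pow_one])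
    (by rw [X.u_phi.eq, mul_inv_cancel_right]; exact S.φ_L) (fun hc => X.n_odd X.D.u_ord hc.symm)
  -- the `p`-part of `h`
  obtain ⟨a, m, hm, hom⟩ := Nat.exists_eq_pow_mul_and_not_dvd (orderOf_pos S.h).ne' X.D.p hp.ne_one
  have hm0 : m ≠ 0 := fun e => hm (e ▸ dvd_zero _)
  have hpmod : k ≡ 1 [MOD X.D.p] := by
    refine S.orbit_mod (g := S.h ^ m) (a := a) (pow_mem S.h_norm m) ?_ ?_ ?_
    · rw [orderOf_pow' S.h hm0, hom, Nat.gcd_eq_right (dvd_mul_left _ _), Nat.mul_div_cancel _ (Nat.pos_of_ne_zero hm0)]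
    · rw [(S.h_phi.pow_left m).eq, mul_inv_cancel_right]; exact S.φ_L
    · intro hc
      refine S.h_n ?_
      have hH : Subgroup.centralizer ({X.D.n} : Set G) = Subgroup.centralizer ({X.D.n} : Set G) := rfl
      have h1 : S.h ^ (m : ℤ) ∈ Subgroup.centralizer ({X.D.n} : Set G) := by
        rw [zpow_natCast]; exact Subgroup.mem_centralizer_singleton_iff.mpr hc
      have h2 : S.h ^ (X.D.p : ℤ) ∈ Subgroup.centralizer ({X.D.n} : Set G) := by
        rw [zpow_natCast]; exact Subgroup.mem_centralizer_singleton_iff.mpr S.h_pow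
      have hg : Nat.gcd m X.D.p = 1 := Nat.Coprime.symm (hp.coprime_iff_not_dvd.mpr hm)
      have h3 := mul_mem (Subgroup.zpow_mem _ h1 (m.gcdA X.D.p)) (Subgroup.zpow_mem _ h2 (m.gcdB X.D.p))
      rw [← zpow_mul, ← zpow_mul, ← zpow_add, ← Nat.gcd_eq_gcd_ab, hg, Nat.cast_one, zpow_one] at h3
      exact Subgroup.mem_centralizer_singleton_iff.mp h3
  have hkr : k ≤ r := S.orbit_le
  have hknd : ¬ r ∣ k := by
    intro h
    have hPN : D.P ≤ N := Subgroup.le_normalizer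
    have hle : D.P.subgroupOf N ≤ S0 := fun x hx => by
      refine S.norm_L x.2 ?_
      show (x : G) * C.φ * (x : G)⁻¹ ∈ S.L
      have h1 := S.comm _ hx _ D.φ_mem
      rw [show (x : G) * C.φ * (x : G)⁻¹ = ⁅(x : G), C.φ⁆ * C.φ by rw [commutatorElement_def]; group]
      exact mul_mem (S.Z_L h1) S.φ_L
    exact D.index ((h.trans (Subgroup.index_dvd_of_le hle)).trans (Subgroup.relIndex_dvd_index_of_le hPN))
  have hk1 : k = 1 := by
    by_contra hne
    have hq : r = 19 ∧ (k = 7 ∨ k = 13) := by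
      rw [Nat.ModEq] at hu hpmod
      rcases X.D.rp with ⟨e1, e2⟩ | ⟨e1, e2⟩ <;> rw [e2] at hpmod
      · exfalso
        have h11 : k = 11 := by omega
        exact hknd (by rw [h11, e1])
      · rcases e1 with e1 | e1
        · exact absurd (dvd_of_eq (show r = k by omega)) hknd
        refine ⟨e1, ?_⟩
        rcases (show k = 7 ∨ k = 13 ∨ k = 19 by omega) with e | e | e
        · exact Or.inl e
        · exact Or.inr e
        · exact absurd (by rw [e, e1]) hknd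
    obtain ⟨e1, hk7⟩ := hq
    have hkp : k.Prime := by rcases hk7 with e | e <;> rw [e] <;> norm_num
    haveI : Fact k.Prime := ⟨hkp⟩
    obtain ⟨g, hg⟩ := exists_prime_orderOf_dvd_card' (G := N) k (Subgroup.index_dvd_card S0)
    rw [← Subgroup.orderOf_coe] at hg
    obtain ⟨cp, hcp⟩ := IsPGroup.iff_card.mp D.isP
    have hcp3 : cp ≤ 3 := by
      have h1 : Nat.card S.Z ≤ r := by
        have := Subgroup.card_le_of_le S.Z_le
        rwa [Nat.card_zpowers, X.D.n_ord] at this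
      refine (Nat.pow_le_pow_iff_right X.prime.one_lt).mp ?_
      rw [← hcp, D.card_P, S.cardW, pow_succ, pow_two]
      exact Nat.mul_le_mul_right r (Nat.mul_le_mul_left r h1)
    have hcomm : ∀ x ∈ D.P, Commute (g : G) x := fun x hx =>
      commute_of_small X.prime hkp (fun e => hknd (e ▸ dvd_rfl)) (by
        intro i hi
        simp only [List.mem_cons, List.not_mem_nil, or_false] at hi
        rcases hk7 with e | e <;> rw [e] <;> rcases hi with rfl | rfl | rfl <;> subst e1 <;> norm_num)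
        hcp hcp3 hg g.2 hx
    obtain ⟨i, j, hj, e⟩ := X.cent_phi (hcomm _ D.φ_mem)
    have hjn : Commute j X.D.n := by
      have h1 : j = (C.φ ^ i)⁻¹ * (g : G) := by rw [e, inv_mul_cancel_left]
      rw [h1]
      exact ((X.n_phi.pow_left i).inv_left).mul_left (hcomm _ D.n_P)
    obtain ⟨b, hb⟩ := X.D.cent_n j hj hjn
    simp only at hb
    have hgP : (g : G) ∈ D.P := by
      rw [e, ← hb]
      exact mul_mem (pow_mem D.φ_mem i) (Subgroup.zpow_mem _ D.n_P b)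
    obtain ⟨l, hl⟩ := D.pow_eq_one hgP
    have h1 := orderOf_dvd_of_pow_eq_one hl
    rw [hg] at h1
    exact hknd ((Nat.prime_dvd_prime_iff_eq hkp X.prime).mp (hkp.dvd_of_dvd_pow h1) ▸ dvd_rfl)
  have htop := Subgroup.index_eq_one.mp (hk ▸ hk1)
  have hmem : (⟨s, hs⟩ : N) ∈ S0 := htop ▸ Subgroup.mem_top _
  exact (Subgroup.mem_normalizer_iff.mp hmem C.φ).mp S.φ_L

/-- The small cases are impossible. -/
theorem false : False := by
  refine D.finish (Subgroup.normalizer (D.P : Set G)) S.control ?_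
  intro x hx s hs _
  obtain ⟨p, hp, z, hz, hc, he⟩ := S.fix_phi hs (S.orbit_one hs)
  -- `s` normalises `W`
  have hW : ∀ w ∈ D.W, s * w * s⁻¹ ∈ D.W := by
    intro w hw
    obtain ⟨i, j, hj, e⟩ := X.cent_phi hc
    have hps : ∀ v ∈ D.P, (p * s) * v * (p * s)⁻¹ ∈ D.P := fun v hv =>
      (Subgroup.mem_normalizer_iff.mp (mul_mem (Subgroup.le_normalizer hp) hs) v).mp hv
    have hjP : ∀ v ∈ D.P, j * v * j⁻¹ ∈ D.P := fun v hv => by
      have h1 := mul_mem (mul_mem (inv_mem (pow_mem D.φ_mem i)) (hps v hv)) (pow_mem D.φ_mem i)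
      rw [e] at h1
      convert h1 using 1
      group
    have hjn := X.J_rgroup (D.isP.to_le (inf_le_left : D.P ⊓ X.D.J ≤ D.P)) inf_le_right ⟨D.n_P, X.D.n_mem⟩
      ⟨hjP _ D.n_P, mul_mem (mul_mem hj X.D.n_mem) (X.D.J.inv_mem hj)⟩
    have hju := X.D.u_norm j hj hjn
    set l := j * X.D.u * j⁻¹ * X.D.u⁻¹ with hl
    have hlP : l ∈ D.P := Subgroup.zpowers_le.mpr D.n_P hju
    have hlc : ∀ v ∈ D.P, Commute l v := fun v hv => by
      obtain ⟨b, hb⟩ := hju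
      simp only at hb
      rw [← hb]
      exact (S.n_central v hv).zpow_left b
    have hvP := hjP w (D.W_le hw)
    have h3 : l * (X.D.u * (j * w * j⁻¹) * X.D.u⁻¹) * l⁻¹ = (j * w * j⁻¹)⁻¹ := by
      calc l * (X.D.u * (j * w * j⁻¹) * X.D.u⁻¹) * l⁻¹ = j * (X.D.u * w * X.D.u⁻¹) * j⁻¹ := by rw [hl]; group
        _ = _ := by rw [D.inv w hw]; group
    rw [(hlc _ (D.u_norm _ hvP)).eq, mul_inv_cancel_right] at h3
    have hjw := D.of_inv _ hvP h3
    have hsw : s * w * s⁻¹ = p⁻¹ * (C.φ ^ i * (j * w * j⁻¹) * (C.φ ^ i)⁻¹) * p⁻¹⁻¹ := by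
      rw [eq_inv_mul_iff_mul_eq.mpr e]
      group
    rw [hsw]
    exact D.norm _ (inv_mem hp) _ (D.norm _ (pow_mem D.φ_mem i) _ hjw)
  obtain ⟨w, hw, i, rfl⟩ := D.decomp x hx
  have hzc : Commute z C.φ := S.central z hz _ D.φ_mem
  have he' : s * (C.φ ^ i)⁻¹ * s⁻¹ = (C.φ ^ i)⁻¹ * (z ^ i)⁻¹ := by
    rw [← conj_inv, ← conj_pow, he, hzc.symm.mul_pow, _root_.mul_inv_rev, ((hzc.pow_pow i i).inv_inv).eq]
  have e : ⁅w * C.φ ^ i, s⁆ = w * (C.φ ^ i * (s * (C.φ ^ i)⁻¹ * s⁻¹)) * (s * w⁻¹ * s⁻¹) := by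
    rw [commutatorElement_def]; group
  rw [e, he', mul_inv_cancel_left]
  exact mul_mem (mul_mem hw (inv_mem (S.Z_W (pow_mem hz i)))) (hW _ (inv_mem hw))

end SData

end CfsgLib.Walter
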