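import Cfsg.Agent.Lib.Walter.J1Local.Local

/-!
Case (J): the `u`-invariant Sylow `r`-subgroup `P = W⟨φ⟩` with `W` inverted.
-/

set_option autoImplicit false
set_option linter.unusedSectionVars false

namespace CfsgLib.Walter

universe u

variable {G : Type u} [Group G] [Finite G] {C : Coord G} {r : ℕ}

/-- A `u`-invariant Sylow subgroup with its inverted part. -/
structure PData (X : Ctx C r) where
  P : Subgroup G
  W : Subgroup G
  isP : IsPGroup r P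
  index : ¬ r ∣ P.index
  φ_mem : C.φ ∈ P
  n_mem : X.D.n ∈ W
  W_le : W ≤ P
  u_norm : ∀ x ∈ P, X.D.u * x * X.D.u⁻¹ ∈ P
  norm : ∀ p ∈ P, ∀ w ∈ W, p * w * p⁻¹ ∈ W
  inv : ∀ w ∈ W, X.D.u * w * X.D.u⁻¹ = w⁻¹
  comm : ∀ v ∈ W, ∀ w ∈ W, Commute v w
  decomp : ∀ x ∈ P, ∃ w ∈ W, ∃ i : ℕ, x = w * C.φ ^ i
  φ_pow : ∀ i : ℕ, C.φ ^ i ∈ W → C.φ ^ i = 1
  of_inv : ∀ x ∈ P, X.D.u * x * X.D.u⁻¹ = x⁻¹ → x ∈ W

namespace Ctx

variable (X : Ctx C r)
include X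

theorem uu : X.D.u * X.D.u = 1 := by rw [← pow_two]; exact orderOf_dvd_iff_pow_eq_one.mp X.D.u_ord.dvd

theorem u_inv : X.D.u⁻¹ = X.D.u := inv_eq_of_mul_eq_one_right X.uu

/-- The group `⟨φ, n⟩`. -/
theorem exists_Q0 : ∃ Q : Subgroup G, IsPGroup r Q ∧ Nat.card Q = r ^ 2 ∧ C.φ ∈ Q ∧ X.D.n ∈ Q ∧
    X.D.u ∈ Subgroup.normalizer (Q : Set G) ∧
    ∀ x, x ∈ Q ↔ ∃ i j : ℕ, x = C.φ ^ i * X.D.n ^ j := by
  haveI : Fact r.Prime := ⟨X.prime⟩
  let f : Subgroup.zpowers C.φ × Subgroup.zpowers X.D.n →* G :=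
    MonoidHom.noncommCoprod (Subgroup.zpowers C.φ).subtype (Subgroup.zpowers X.D.n).subtype (by
      rintro ⟨_, i, rfl⟩ ⟨_, j, rfl⟩
      exact (X.n_phi.zpow_left i).zpow_right j)
  have hf : Function.Injective f := by
    refine (injective_iff_map_eq_one f).mpr fun ⟨a, b⟩ h => ?_
    have h' : (a : G) * b = 1 := h
    have hb : (b : G) ∈ Subgroup.zpowers C.φ ⊓ X.D.J :=
      ⟨by rw [eq_inv_of_mul_eq_one_right h']; exact (Subgroup.zpowers C.φ).inv_mem a.2, Subgroup.zpowers_le.mpr X.D.n_mem b.2⟩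
    rw [X.D.inf, Subgroup.mem_bot] at hb
    rw [hb, mul_one] at h'
    exact Prod.ext (Subtype.ext h') (Subtype.ext hb)
  have hcard : Nat.card f.range = r ^ 2 := by
    rw [← Nat.card_congr (MonoidHom.ofInjective hf).toEquiv, Nat.card_prod, Nat.card_zpowers, Nat.card_zpowers,
      X.φ_ord, X.D.n_ord, pow_two]
  have hmem : ∀ x, x ∈ f.range ↔ ∃ i j : ℕ, x = C.φ ^ i * X.D.n ^ j := by
    intro x
    constructor
    · rintro ⟨⟨a, b⟩, rfl⟩
      obtain ⟨i, hi⟩ := (isOfFinOrder_of_finite C.φ).mem_powers_iff_mem_zpowers.mpr a.2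
      obtain ⟨j, hj⟩ := (isOfFinOrder_of_finite X.D.n).mem_powers_iff_mem_zpowers.mpr b.2
      exact ⟨i, j, by simp only at hi hj; show (a : G) * b = _; rw [hi, hj]⟩
    · rintro ⟨i, j, rfl⟩
      exact ⟨(⟨_, Subgroup.pow_mem _ (Subgroup.mem_zpowers _) i⟩, ⟨_, Subgroup.pow_mem _ (Subgroup.mem_zpowers _) j⟩), rfl⟩
  refine ⟨f.range, IsPGroup.of_card hcard, hcard, (hmem _).mpr ⟨1, 0, by simp⟩, (hmem _).mpr ⟨0, 1, by simp⟩, ?_, hmem⟩
  refine Subgroup.mem_normalizer_fintype fun x hx => ?_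
  obtain ⟨i, j, rfl⟩ := (hmem x).mp hx
  rw [show X.D.u * (C.φ ^ i * X.D.n ^ j) * X.D.u⁻¹ = (X.D.u * C.φ ^ i * X.D.u⁻¹) * (X.D.u * X.D.n ^ j * X.D.u⁻¹) by group,
    (X.u_phi.pow_right i).eq, mul_inv_cancel_right, ← conj_pow, X.D.u_n]
  exact mul_mem (pow_mem ((hmem _).mpr ⟨1, 0, by simp⟩) i) (pow_mem (inv_mem ((hmem _).mpr ⟨0, 1, by simp⟩)) j)

/-- A four-group normalises no `r`-group of order at least `r²`. -/
theorem not_four {Q : Subgroup G} (hQ : IsPGroup r Q) (hcard : r ^ 2 ≤ Nat.card Q) :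
    ¬ 4 ∣ Nat.card (Subgroup.normalizer (Q : Set G)) := by
  intro h4
  haveI : Fact r.Prime := ⟨X.prime⟩
  haveI : Fact (Nat.Prime 2) := ⟨Nat.prime_two⟩
  obtain ⟨V', hV'⟩ := Sylow.exists_subgroup_card_pow_prime (G := Subgroup.normalizer (Q : Set G)) 2 (n := 2) h4
  set V := V'.map (Subgroup.normalizer (Q : Set G)).subtype
  have hV : Nat.card V = 4 := by rw [Subgroup.card_map_of_injective (Subgroup.subtype_injective _), hV']; rfl
  obtain ⟨S, hS⟩ := (IsPGroup.of_card (n := 2) hV : IsPGroup 2 V).exists_le_sylow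
  have hsq : ∀ v ∈ V, v * v = 1 := fun v hv => (X.B.e8.sylow S).2 v (hS hv)
  have hodd : Odd (Nat.card Q) := by
    obtain ⟨a, ha⟩ := IsPGroup.iff_card.mp hQ
    rw [ha]; exact X.odd_pow
  have hVQ : V ≤ Subgroup.normalizer (Q : Set G) := Subgroup.map_subtype_le _
  have hle : Q ≤ Subgroup.centralizer (V : Set G) := four_le_centralizer hV hsq hodd hVQ
    (fun v hv hv1 a ha x hx hc =>
      X.invl_rinj (orderOf_eq_prime (by rw [pow_two]; exact hsq v hv) hv1) hQ ((X.B.e8.sylow S).comm (hS ha) (hS hv))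
        hc.symm hx ((Subgroup.mem_normalizer_iff.mp (hVQ ha) x).mp hx))
  obtain ⟨v, hv, hv1⟩ : ∃ v ∈ V, v ≠ 1 := by
    refine (Subgroup.ne_bot_iff_exists_ne_one.mp fun e => ?_).elim fun v hv => ⟨v.1, v.2, fun e => hv (Subtype.ext e)⟩
    rw [e, Subgroup.card_bot] at hV
    omega
  have h1 := X.invl_card (orderOf_eq_prime (by rw [pow_two]; exact hsq v hv) hv1) hQ
    fun q hq => (hle hq v hv).symm
  have : r < r ^ 2 := by
    rw [pow_two]; exact lt_mul_of_one_lt_left X.prime.pos X.prime.one_lt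
  omega

theorem exists_sylowR : ∃ P : Subgroup G, IsPGroup r P ∧ ¬ r ∣ P.index ∧ C.φ ∈ P ∧ X.D.n ∈ P ∧
    X.D.u ∈ Subgroup.normalizer (P : Set G) := by
  haveI : Fact r.Prime := ⟨X.prime⟩
  obtain ⟨Q0, hQ0, hQ0c, hφ, hn, hu, -⟩ := X.exists_Q0
  obtain ⟨P, ⟨hP, hQP, huP⟩, hmax⟩ := Set.exists_max_image
    {Q : Subgroup G | IsPGroup r Q ∧ Q0 ≤ Q ∧ X.D.u ∈ Subgroup.normalizer (Q : Set G)}
    (fun Q => Nat.card Q) (Set.toFinite _) ⟨Q0, hQ0, le_rfl, hu⟩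
  refine ⟨P, hP, fun hdvd => ?_, hQP hφ, hQP hn, huP⟩
  obtain ⟨Q, hQ, hPQ, hlt, huQ⟩ := exists_larger X.two hP X.D.u_ord huP
    (X.not_four hP (hQ0c ▸ Subgroup.card_le_of_le hQP)) hdvd
  exact absurd (hmax Q ⟨hQ, hQP.trans hPQ, huQ⟩) (not_le.mpr hlt)

theorem exists_pdata : Nonempty (PData X) := by
  classical
  haveI : Fact r.Prime := ⟨X.prime⟩
  obtain ⟨P, hP, hidx, hφ, hn, hu⟩ := X.exists_sylowR
  set u := X.D.u with hudef
  have huP : ∀ x ∈ P, u * x * u⁻¹ ∈ P := fun x hx => (Subgroup.mem_normalizer_iff.mp hu x).mp hx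
  let α : P ≃* P :=
    { toFun := fun x => ⟨u * x * u⁻¹, huP _ x.2⟩
      invFun := fun x => ⟨u * x * u⁻¹, huP _ x.2⟩
      left_inv := fun x => Subtype.ext (by
        show u * (u * x.1 * u⁻¹) * u⁻¹ = x.1
        rw [show u * (u * x.1 * u⁻¹) * u⁻¹ = (u * u) * x.1 * (u * u)⁻¹ by group, X.uu]; group)
      right_inv := fun x => Subtype.ext (by
        show u * (u * x.1 * u⁻¹) * u⁻¹ = x.1
        rw [show u * (u * x.1 * u⁻¹) * u⁻¹ = (u * u) * x.1 * (u * u)⁻¹ by group, X.uu]; group)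
      map_mul' := fun x y => Subtype.ext (conj_mul.symm) }
  have hαv : ∀ x : P, ((α x : P) : G) = u * x.1 * u⁻¹ := fun x => rfl
  set φ' : P := ⟨C.φ, hφ⟩
  have hfix : ∀ x : P, α x = x ↔ x ∈ Subgroup.zpowers φ' := by
    intro x
    constructor
    · intro h
      have hxu : Commute x.1 u := (mul_inv_eq_iff_eq_mul.mp (congrArg Subtype.val h)).symm
      set Qf := P ⊓ Subgroup.centralizer ({u} : Set G)
      have hle : Subgroup.zpowers C.φ ≤ Qf := Subgroup.zpowers_le.mpr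
        ⟨hφ, Subgroup.mem_centralizer_singleton_iff.mpr X.u_phi.symm.eq⟩
      have hcard := X.invl_card X.D.u_ord (hP.to_le (inf_le_left : Qf ≤ P))
        fun q hq => Subgroup.mem_centralizer_singleton_iff.mp hq.2
      have heq := Subgroup.eq_of_le_of_card_ge hle (by rw [Nat.card_zpowers, X.φ_ord]; exact hcard)
      obtain ⟨i, hi⟩ := heq.ge ⟨x.2, Subgroup.mem_centralizer_singleton_iff.mpr hxu.eq⟩
      exact ⟨i, Subtype.ext hi⟩
    · rintro ⟨i, rfl⟩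
      refine Subtype.ext ?_
      rw [hαv]
      show u * C.φ ^ i * u⁻¹ = C.φ ^ i
      rw [(X.u_phi.zpow_right i).eq, mul_inv_cancel_right]
  have hC : Nat.card (Subgroup.centralizer ({φ'} : Set P)) ≤ r ^ 2 := by
    obtain ⟨Q0, -, hQ0c, -, -, -, hmem⟩ := X.exists_Q0
    rw [← hQ0c, ← Subgroup.card_map_of_injective P.subtype_injective]
    refine Subgroup.card_le_of_le ?_
    rintro _ ⟨x, hx, rfl⟩
    have hxφ : Commute x.1 C.φ := congrArg Subtype.val (Subgroup.mem_centralizer_singleton_iff.mp hx)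
    obtain ⟨i, j, hj, e⟩ := X.cent_phi hxφ
    have hjP : j ∈ P := by
      have := mul_mem (inv_mem (pow_mem hφ i)) x.2
      rwa [e, inv_mul_cancel_left] at this
    have hjn := X.J_rgroup (hP.to_le (inf_le_left : P ⊓ X.D.J ≤ P)) inf_le_right ⟨hn, X.D.n_mem⟩ ⟨hjP, hj⟩
    obtain ⟨k, hk⟩ := (isOfFinOrder_of_finite X.D.n).mem_powers_iff_mem_zpowers.mpr hjn
    exact (hmem _).mpr ⟨i, k, by simp only at hk; show x.1 = _; rw [e, hk]⟩
  obtain ⟨W, hWn, hWφ, hWα, hWtop⟩ := exists_fpf_part X.two P hP α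
    (fun x => Subtype.ext (by rw [hαv, hαv]; show u * (u * x.1 * u⁻¹) * u⁻¹ = x.1
                              rw [show u * (u * x.1 * u⁻¹) * u⁻¹ = (u * u) * x.1 * (u * u)⁻¹ by group, X.uu]; group))
    φ' (by rw [Subgroup.orderOf_mk, X.φ_ord]) hfix hC
  have hWpow : ∀ x ∈ W, x ∈ Subgroup.zpowers φ' → x = 1 := by
    intro x hx hx'
    haveI : Fact (Nat.card (Subgroup.zpowers φ')).Prime := ⟨by
      rw [Nat.card_zpowers, Subgroup.orderOf_mk, X.φ_ord]; exact X.prime⟩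
    rcases Subgroup.eq_bot_or_eq_top_of_prime_card (W.subgroupOf (Subgroup.zpowers φ')) with h | h
    · exact Subgroup.disjoint_def.mp (Subgroup.subgroupOf_eq_bot.mp h) hx hx'
    · exact absurd (Subgroup.subgroupOf_eq_top.mp h (Subgroup.mem_zpowers φ')) hWφ
  -- the fixed point free action inverts
  have hWinv : ∀ w ∈ W, α w = w⁻¹ := by
    let d : W → W := fun x => ⟨x.1⁻¹ * α x.1, mul_mem (inv_mem x.2) (hWα _ x.2)⟩
    have hinj : Function.Injective d := by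
      intro x y h
      have h' : x.1⁻¹ * α x.1 = y.1⁻¹ * α y.1 := congrArg Subtype.val h
      have hf : α (y.1 * x.1⁻¹) = y.1 * x.1⁻¹ := by
        rw [map_mul, map_inv]
        calc α y.1 * (α x.1)⁻¹ = y.1 * (y.1⁻¹ * α y.1) * (α x.1)⁻¹ := by group
          _ = y.1 * x.1⁻¹ := by rw [← h']; group
      exact Subtype.ext (mul_inv_eq_one.mp (hWpow _ (mul_mem y.2 (inv_mem x.2)) ((hfix _).mp hf))).symm
    intro w hw
    obtain ⟨x, hx⟩ := Finite.surjective_of_injective hinj ⟨w, hw⟩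
    have hx' : x.1⁻¹ * α x.1 = w := congrArg Subtype.val hx
    rw [← hx', map_mul, map_inv, _root_.mul_inv_rev, inv_inv,
      show α (α x.1) = x.1 from Subtype.ext (by
        rw [hαv, hαv, show u * (u * x.1.1 * u⁻¹) * u⁻¹ = (u * u) * x.1.1 * (u * u)⁻¹ by group, X.uu]; group)]
  set WG := W.map P.subtype
  have hdec : ∀ x ∈ P, ∃ w ∈ WG, ∃ i : ℕ, x = w * C.φ ^ i := by
    intro x hx
    have h : (⟨x, hx⟩ : P) ∈ W ⊔ Subgroup.zpowers φ' := by rw [hWtop]; trivial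
    rw [Subgroup.mem_sup_of_normal_left] at h
    obtain ⟨w, hw, _, ⟨i, rfl⟩, e⟩ := h
    obtain ⟨j, hj⟩ := X.zpow_phi i
    exact ⟨w.1, ⟨w, hw, rfl⟩, j, by rw [hj]; exact (congrArg Subtype.val e).symm⟩
  have hinvG : ∀ w ∈ WG, u * w * u⁻¹ = w⁻¹ := by
    rintro _ ⟨w, hw, rfl⟩
    exact congrArg Subtype.val (hWinv w hw)
  have hpow : ∀ i : ℕ, C.φ ^ i ∈ WG → C.φ ^ i = 1 := by
    rintro i ⟨w, hw, e⟩
    have hw' : w = φ' ^ i := Subtype.ext e
    exact congrArg Subtype.val (hWpow _ (hw' ▸ hw) (Subgroup.pow_mem _ (Subgroup.mem_zpowers _) i))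
  have hnorm : ∀ p ∈ P, ∀ w ∈ WG, p * w * p⁻¹ ∈ WG := by
    rintro p hp _ ⟨w, hw, rfl⟩
    exact ⟨⟨p, hp⟩ * w * ⟨p, hp⟩⁻¹, hWn.conj_mem w hw _, rfl⟩
  have hofinv : ∀ x ∈ P, u * x * u⁻¹ = x⁻¹ → x ∈ WG := by
    intro x hx h
    obtain ⟨w, hw, i, rfl⟩ := hdec x hx
    rw [show u * (w * C.φ ^ i) * u⁻¹ = (u * w * u⁻¹) * (u * C.φ ^ i * u⁻¹) by group, hinvG w hw,
      (X.u_phi.pow_right i).eq, mul_inv_cancel_right, _root_.mul_inv_rev] at h
    have hmem : C.φ ^ (i + i) ∈ WG := by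
      have hv := hnorm _ (inv_mem (pow_mem hφ i)) _ hw
      rw [inv_inv] at hv
      have e : C.φ ^ (i + i) = (C.φ ^ i * (w⁻¹ * C.φ ^ i)) * ((C.φ ^ i)⁻¹ * w * C.φ ^ i) := by rw [pow_add]; group
      rw [e, h]
      refine mul_mem ?_ hv
      rw [show C.φ ^ i * ((C.φ ^ i)⁻¹ * w⁻¹) = w⁻¹ by group]
      exact inv_mem hw
    have hi : C.φ ^ i = 1 := C.φ_pow_two (by rw [← pow_add]; exact hpow _ hmem)
    rwa [hi, mul_one]
  refine ⟨⟨P, WG, hP, hidx, hφ, hofinv _ hn X.D.u_n, Subgroup.map_subtype_le _, huP, hnorm, hinvG, ?_, hdec, hpow,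
    hofinv⟩⟩
  intro v hv w hw
  have h := hinvG _ (mul_mem hv hw)
  rw [show u * (v * w) * u⁻¹ = (u * v * u⁻¹) * (u * w * u⁻¹) by group, hinvG v hv, hinvG w hw,
    ← _root_.mul_inv_rev, inv_inj] at h
  exact h.symm

end Ctx

end CfsgLib.Walter
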